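import Groth.Agent.H4BC.GenPts
import Groth.Agent.FibFlatMod.FlatDimLim
import Groth.Agent.MorLib.LimCons
import Groth.Agent.ConsPropLib.Cores
import Mathlib

/-! The functor `H_p` is limit preserving. -/

set_option autoImplicit false
set_option linter.style.haveILetI false
set_option backward.isDefEq.respectTransparency false
set_option backward.isDefEq.respectTransparency.types false

universe u

open CategoryTheory CategoryTheory.Limits AlgebraicGeometry Opposite TopologicalSpace

namespace Groth.Agent.H4BC.GenPts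

open Groth.Agent Groth.Agent.QCoh

variable {X S : Scheme.{u}} (f : X ⟶ S) (F : X.Modules)

/-- Base change of the base change. -/
noncomputable def trET {Y Y' : Over S} (k : Y' ⟶ Y) : FGA.ET f F Y' ≅
    (Scheme.Modules.pullback (pullback.map f Y'.hom f Y.hom (𝟙 X) k.left (𝟙 S) (by simp) (by simp))).obj
      (FGA.ET f F Y) :=
  (((Scheme.Modules.pullbackComp _ (pullback.fst f Y.hom)).app F ≪≫
    (Scheme.Modules.pullbackCongr ((pullback.lift_fst _ _ _).trans (Category.comp_id _))).app F)).symm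

theorem near_of_stalkFree {Z : Scheme.{u}} {M : Z.Modules} (hM : CohB1.IsFP M) {p : ℕ} {z : Z}
    (h : StalkFree p M z) : FlatFun.IsFreeOfRankNear M p z := by
  haveI := h.1
  obtain ⟨U, n, hz, he⟩ := exists_free_nhd_of_free_stalk hM z
  obtain rfl : n = p := (stalkFree_of_near (isQCoh_of_isFP hM) ⟨U, hz, he⟩).2.symm.trans h.2
  exact ⟨U, hz, he⟩

theorem flat_id_iff {Z : Scheme.{u}} (M : Z.Modules) (z : Z) :
    FlatMod.IsFlatOverAt (𝟙 Z) M z ↔ Module.Flat (Z.presheaf.stalk z) (M.presheaf.stalk z) := by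
  have hid : ∀ r : Z.presheaf.stalk z, (Scheme.Hom.stalkMap (𝟙 Z) z).hom r = r := fun r =>
    congrArg (fun φ : Z.presheaf.stalk z ⟶ Z.presheaf.stalk z => φ r) (Scheme.Hom.stalkMap_id Z z)
  have hm : FlatMod.moduleStalkOver (𝟙 Z) M z =
      (inferInstance : Module (Z.presheaf.stalk z) (M.presheaf.stalk z)) :=
    Module.ext' _ _ fun r m => congrArg (fun a : Z.presheaf.stalk z => a • m) (hid r)
  show @Module.Flat (Z.presheaf.stalk z) (M.presheaf.stalk z) _ _ (FlatMod.moduleStalkOver (𝟙 Z) M z) ↔ _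
  exact iff_of_eq (congrArg (fun i => @Module.Flat (Z.presheaf.stalk z) (M.presheaf.stalk z) _ _ i) hm)

theorem isOpen_near {Z : Scheme.{u}} (M : Z.Modules) (p : ℕ) :
    IsOpen {z : Z | FlatFun.IsFreeOfRankNear M p z} :=
  isOpen_iff_forall_mem_open.2 fun _ ⟨U, hz, he⟩ => ⟨U, fun _ hy => ⟨U, hy, he⟩, U.2, hz⟩

/-- The image of the locus where `F_Y` is free of rank `p`. -/
def freeImage (p : ℕ) (Y : Over S) : Set Y.left :=
  (PicF.XTproj f Y).base '' {z | FlatFun.IsFreeOfRankNear (FGA.ET f F Y) p z}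

theorem mem_freeImage_bc (hF : CohB1.IsFP F) (p : ℕ) {Y Y' : Over S} (k : Y' ⟶ Y) {s : Y'.left}
    (h : k.left s ∈ freeImage f F p Y) : s ∈ freeImage f F p Y' := by
  obtain ⟨z, hz, hzs⟩ := h
  obtain ⟨w₀, hw₁, hw₂⟩ := Scheme.Pullback.exists_preimage_pullback (f := pullback.snd f Y.hom) (g := k.left) z s hzs
  let w := (FlatDimSheaf.sq f k).isoPullback.inv w₀
  obtain rfl : (pullback.map f Y'.hom f Y.hom (𝟙 X) k.left (𝟙 S) (by simp) (by simp)) w = z := by
    rw [← hw₁, ← Scheme.Hom.comp_apply, IsPullback.isoPullback_inv_fst]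
  refine ⟨w, near_of_stalkFree (ModStLib.isFP_pullback _ hF)
    ((stalkFree_pullback _ _ w (stalkFree_of_near (isQCoh_of_isFP (ModStLib.isFP_pullback _ hF)) hz)).of_iso
      (trET f F k).symm), ?_⟩
  show pullback.snd f Y'.hom w = s
  rw [← hw₂, ← Scheme.Hom.comp_apply, IsPullback.isoPullback_inv_snd]

theorem freeAtGenericPts_of_freeImage [GeometricallyIrreducible f] (p : ℕ) (Y : Over S)
    (h : ∀ s, s ∈ freeImage f F p Y) : FlatFun.FreeAtGenericPts (PicF.XTproj f Y) (FGA.ET f F Y) p := by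
  intro s
  haveI : GeometricallyIrreducible (PicF.XTproj f Y) := MorphismProperty.pullback_snd _ _ inferInstance
  obtain ⟨z, hz, hzs⟩ := h s
  obtain ⟨x, hx, hgen⟩ := exists_isGenericPtOfFibre (PicF.XTproj f Y) s
  exact ⟨x, hx, hgen, (hgen z (hzs.trans hx.symm)).mem_open (isOpen_near _ p) hz⟩

theorem freeImage_of_freeAtGenericPts (p : ℕ) (Y : Over S)
    (h : FlatFun.FreeAtGenericPts (PicF.XTproj f Y) (FGA.ET f F Y) p) (s : Y.left) :
    s ∈ freeImage f F p Y := by
  obtain ⟨x, hx, -, hnear⟩ := h s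
  exact ⟨x, hnear, hx⟩

/-- The functor `H_p` is limit preserving. -/
theorem isLimitPreserving_freeAtGenericPts [Smooth f] [GeometricallyIrreducible f] (hF : CohB1.IsFP F) (p : ℕ) :
    AlgSp.IsLimitPreserving
      (FlatFun.genPSp S (fun T => FlatFun.FreeAtGenericPts (PicF.XTproj f T) (FGA.ET f F T) p)) := by
  intro I _ _ D c hc hD hT
  refine ⟨Types.FilteredColimit.isColimitOf _ _ ?_ ?_⟩
  · rintro ⟨⟨T₀, k, hk⟩⟩
    let D' : I ⥤ Scheme.{u} := D ⋙ Over.forget S
    haveI : ∀ j, IsAffine (D'.obj j) := hD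
    haveI : ∀ (a b : I) (φ : a ⟶ b), IsAffineHom (D'.map φ) := fun _ _ φ => isAffineHom_of_isAffine _
    haveI : ∀ {a b : I} (φ : a ⟶ b), IsAffineHom (D'.map φ) := fun φ => isAffineHom_of_isAffine _
    let c' : Cone D' := (Over.forget S).mapCone c
    haveI : Nonempty I := IsCofiltered.nonempty
    have hqc : ∀ Y : Over S, Coh.IsQCoh (FGA.ET f F Y) := fun Y => isQCoh_of_isFP (ModStLib.isFP_pullback _ hF)
    let O : I → Set c'.pt := fun j => (c.π.app j).left ⁻¹' freeImage f F p (D.obj j)
    have hO : ∀ j, IsOpen (O j) := fun j => by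
      refine IsOpen.preimage (c.π.app j).left.continuous ?_
      haveI : Smooth (PicF.XTproj f (D.obj j)) := MorphismProperty.pullback_snd _ _ inferInstance
      exact (PicF.XTproj f (D.obj j)).isOpenMap _ (isOpen_near _ p)
    have hmono : ∀ {a b : I} (φ : a ⟶ b), O b ⊆ O a := fun {a b} φ t ht => by
      refine mem_freeImage_bc f F hF p (D.map φ) ?_
      have : (c.π.app a).left ≫ (D.map φ).left = (c.π.app b).left := by
        rw [← Over.comp_left, c.w]
      show (D.map φ).left ((c.π.app a).left t) ∈ _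
      rw [← Scheme.Hom.comp_apply, this]
      exact ht
    have hcov : Set.univ ⊆ ⋃ j, O j := fun t _ => by
      obtain ⟨i⟩ : Nonempty I := inferInstance
      obtain ⟨x, hxt, hx⟩ := mem_freeImage_bc f F hF p k (freeImage_of_freeAtGenericPts f F p T₀ hk (k.left t))
      let xi : pullback f (D.obj i).hom ⟶ D'.obj i := pullback.snd f (D.obj i).hom
      let r : pullback f (D.obj i).hom ⟶ X := pullback.fst f (D.obj i).hom
      let qX : pullback f c.pt.hom ⟶ pullback f (D.obj i).hom :=
        pullback.map f c.pt.hom f (D.obj i).hom (𝟙 X) (c.π.app i).left (𝟙 S) (by simp) (by simp)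
      have hY : IsPullback qX (pullback.snd f c.pt.hom) xi (c'.π.app i) := FlatDimSheaf.sq f (c.π.app i)
      have hsf := stalkFree_of_near (hqc c.pt) hxt
      have hfr0 : Module.Free ((pullback f c.pt.hom).presheaf.stalk x)
          (((Scheme.Modules.pullback qX).obj (FGA.ET f F (D.obj i))).presheaf.stalk x) :=
        (hsf.of_iso (trET f F (c.π.app i))).1
      have hflat : FlatMod.IsFlatOverAt (𝟙 (pullback f c.pt.hom))
          ((Scheme.Modules.pullback qX).obj (FGA.ET f F (D.obj i))) x := by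
        rw [flat_id_iff]
        haveI := hfr0
        exact Module.Flat.of_free
      obtain ⟨j, φ, Xi, Yi, fi, gi, pY, pX, vY, vX, h1, h2, -, h4, h5, h6, h8⟩ :=
        FibFlatMod.exists_stage_flatAt D' c' hc i (𝟙 _) xi
          (ModStLib.isFP_pullback r hF) (𝟙 _) (pullback.snd f c.pt.hom) qX qX hY
          (IsPullback.of_vert_isIso ⟨by simp⟩) x hflat
      haveI : IsIso fi := (MorphismProperty.isomorphisms Scheme.{u}).of_isPullback h2
        (inferInstanceAs (IsIso (𝟙 (pullback f (D.obj i).hom))))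
      have h9 : FlatMod.IsFlatOverAt (𝟙 Xi) ((Scheme.Modules.pullback pX).obj (FGA.ET f F (D.obj i))) (vX x) :=
        FibFlatMod.isFlatOverAt_bc (v := 𝟙 Xi) (w := fi) (IsPullback.of_vert_isIso ⟨by simp⟩)
          pX pX (Category.id_comp _) _ _ h8
      let G := (Scheme.Modules.pullback pX).obj (FGA.ET f F (D.obj i))
      have hG : CohB1.IsFP G := ModStLib.isFP_pullback pX (ModStLib.isFP_pullback r hF)
      have hfr : Module.Free (Xi.presheaf.stalk (vX x)) (G.presheaf.stalk (vX x)) := by
        rw [flat_id_iff] at h9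
        haveI : Module.Flat (Xi.presheaf.stalk (vX x)) (G.presheaf.stalk (vX x)) := h9
        haveI := finite_stalk_of_isFT (isQCoh_of_isFP hG) (isFT_of_isFP hG) (vX x)
        exact Module.free_of_flat_of_isLocalRing
      let e : (Scheme.Modules.pullback vX).obj G ≅ FGA.ET f F c.pt :=
        (Scheme.Modules.pullbackComp vX pX).app _ ≪≫ (Scheme.Modules.pullbackCongr h5).app _ ≪≫
          (trET f F (c.π.app i)).symm
      have hsG : StalkFree p G (vX x) := ⟨hfr,
        ((stalkFree_pullback vX G x (p := Module.finrank _ _) ⟨hfr, rfl⟩).of_iso e).2.symm.trans hsf.2⟩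
      have sq : IsPullback (pY ≫ r) gi f (D.obj j).hom := by
        have := h1.paste_horiz (IsPullback.of_hasPullback f (D.obj i).hom)
        rwa [show D'.map φ ≫ (D.obj i).hom = (D.obj j).hom from Over.w (D.map φ)] at this
      let b : Xi ⟶ pullback f (D.obj j).hom := fi ≫ sq.isoPullback.hom
      have hpX : pX = fi ≫ pY := by
        have := h2.w; rwa [Category.comp_id] at this
      let eb : G ≅ (Scheme.Modules.pullback b).obj (FGA.ET f F (D.obj j)) :=
        (Scheme.Modules.pullbackComp pX r).app F ≪≫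
          (Scheme.Modules.pullbackCongr (show pX ≫ r = b ≫ pullback.fst f (D.obj j).hom by
            rw [Category.assoc, IsPullback.isoPullback_hom_fst, hpX, Category.assoc])).app F ≪≫
          ((Scheme.Modules.pullbackComp b _).app F).symm
      refine Set.mem_iUnion.2 ⟨j, b (vX x), near_of_stalkFree (ModStLib.isFP_pullback _ hF)
        (stalkFree_descent b (hqc _) (isFT_of_isFP (ModStLib.isFP_pullback _ hF)) _ (hsG.of_iso eb)), ?_⟩
      have hcomp : vX ≫ b ≫ pullback.snd f (D.obj j).hom = pullback.snd f c.pt.hom ≫ (c.π.app j).left := by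
        rw [Category.assoc, IsPullback.isoPullback_hom_snd, ← Category.assoc, h6, Category.id_comp, h4]
        rfl
      show pullback.snd f (D.obj j).hom (b (vX x)) = (c.π.app j).left t
      rw [← hx]
      exact congr($hcomp x)
    haveI : IsAffine c'.pt := hT
    obtain ⟨j, hj⟩ := isCompact_univ.elim_directed_cover O hO hcov fun a b =>
      ⟨IsCofiltered.min a b, hmono (IsCofiltered.minToLeft a b), hmono (IsCofiltered.minToRight a b)⟩
    haveI : CompactSpace (D'.obj j) := inferInstance
    obtain ⟨m, φ, hm⟩ := ConsPropLib.exists_stage_subset hc (𝟙 (D'.obj j))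
      (q := c'.π.app j) (f := 𝟙 c'.pt) (IsPullback.id_vert _) (B := freeImage f F p (D.obj j))
      (MorLib.LimCons.ind_of_isOpen (by
        haveI : Smooth (PicF.XTproj f (D.obj j)) := MorphismProperty.pullback_snd _ _ inferInstance
        exact (PicF.XTproj f (D.obj j)).isOpenMap _ (isOpen_near _ p)))
      (fun t => hj (Set.mem_univ t))
    refine ⟨op m, ⟨⟨D.obj m, 𝟙 _, freeAtGenericPts_of_freeImage f F p _ fun s => mem_freeImage_bc f F hF p (D.map φ) ?_⟩⟩,
      @Subsingleton.elim _ (FlatFun.genPSp_subsingleton _ _ _) _ _⟩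
    obtain ⟨y, hy, -⟩ := Scheme.Pullback.exists_preimage_pullback (f := 𝟙 (D'.obj j)) (g := D'.map φ)
      ((D.map φ).left s) s rfl
    exact hy ▸ hm y
  · intro a b xa xb _
    obtain ⟨l, f₁, f₂, -⟩ := IsFilteredOrEmpty.cocone_objs a b
    exact ⟨l, f₁, f₂, @Subsingleton.elim _ (FlatFun.genPSp_subsingleton _ _ _) _ _⟩

end Groth.Agent.H4BC.GenPts
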