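import Groth.Agent.ParaFX.FlatDesc
import Groth.Agent.LimMod.Functors
import Groth.Agent.BigSiteLib.PiFpqc
import Groth.Agent.Synt29.ConormalExact
import Mathlib

/-! The fpqc sheaf condition for subfunctors defined by conditions on base changes of a morphism of modules. -/

set_option autoImplicit false
set_option linter.style.haveILetI false
set_option backward.isDefEq.respectTransparency false
set_option backward.isDefEq.respectTransparency.types false

universe u

open CategoryTheory CategoryTheory.Limits AlgebraicGeometry Opposite TopologicalSpace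
open scoped TensorProduct

namespace Groth.Agent.H4BC.FlatFunSheaf

open Groth.Agent.Synt29 OmegaStalk Groth.Agent.KFlatLib

variable {Z' Z : Scheme.{u}}

/-- What stalks of a flat pullback say about stalks. -/
theorem stalk_descent (a : Z' ⟶ Z) [Flat a] (x : Z') {M N : Z.Modules} (φ : M ⟶ N) :
    ((DerSch.stalkFunctor Z' x).map ((Scheme.Modules.pullback a).map φ) = 0 →
      (DerSch.stalkFunctor Z (a x)).map φ = 0) ∧
    (Epi ((Scheme.Modules.pullback a).map φ) → Function.Surjective ((DerSch.stalkFunctor Z (a x)).map φ)) ∧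
    (IsIso ((Scheme.Modules.pullback a).map φ) → Function.Bijective ((DerSch.stalkFunctor Z (a x)).map φ)) := by
  let A := Z.presheaf.stalk (a x)
  let B := Z'.presheaf.stalk x
  letI : Algebra A B := (a.stalkMap x).hom.toAlgebra
  haveI : IsLocalHom (algebraMap A B) := inferInstanceAs (IsLocalHom (a.stalkMap x).hom)
  haveI : Module.Flat A B := Flat.stalkMap a x
  haveI : Module.FaithfullyFlat A B := Module.FaithfullyFlat.of_flat_of_isLocalHom
  let g := (DerSch.stalkFunctor Z (a x)).map φ
  let ψ := (ModuleCat.extendScalars (a.stalkMap x).hom).map g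
  let e : Arrow.mk ((DerSch.stalkFunctor Z' x).map ((Scheme.Modules.pullback a).map φ)) ≅ Arrow.mk ψ :=
    ((Functor.mapArrowFunctor _ _).mapIso (stalkPullbackIso a x)).app (Arrow.mk φ)
  refine ⟨fun h => ?_, fun h => ?_, fun h => ?_⟩
  · have hψ : ψ = 0 := by
      have h2 : ψ ≫ (stalkPullbackIso a x).inv.app N =
          (stalkPullbackIso a x).inv.app M ≫ (DerSch.stalkFunctor Z' x).map ((Scheme.Modules.pullback a).map φ) :=
        (stalkPullbackIso a x).inv.naturality φ
      calc ψ = ψ ≫ 𝟙 _ := (Category.comp_id ψ).symm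
        _ = ψ ≫ (stalkPullbackIso a x).inv.app N ≫ (stalkPullbackIso a x).hom.app N :=
          congrArg (ψ ≫ ·) ((stalkPullbackIso a x).inv_hom_id_app N).symm
        _ = 0 := by rw [← Category.assoc, h2, h, comp_zero, zero_comp]
    refine ModuleCat.hom_ext (LinearMap.ext fun m => ?_)
    have h1 : g.hom.lTensor B ((1 : B) ⊗ₜ[A] m) = 0 :=
      congrArg (fun t => t ((1 : B) ⊗ₜ[A] m)) hψ
    rw [LinearMap.lTensor_tmul] at h1
    exact (Module.FaithfullyFlat.one_tmul_eq_zero_iff (R := A) (A := B) _ _).1 h1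
  · haveI : Epi ψ := ((MorphismProperty.epimorphisms _).arrow_mk_iso_iff e).1
      ((epi_iff_stalk _).1 h x |> fun hs => (ModuleCat.epi_iff_surjective _).2 hs)
    have hb : Function.Surjective (g.hom.lTensor B) := (ModuleCat.epi_iff_surjective ψ).1 inferInstance
    exact (Module.FaithfullyFlat.lTensor_surjective_iff_surjective A B _).1 hb
  · haveI : IsIso ψ := ((MorphismProperty.isomorphisms _).arrow_mk_iso_iff e).1
      (inferInstanceAs (IsIso ((DerSch.stalkFunctor Z' x).map ((Scheme.Modules.pullback a).map φ))))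
    have hb : Function.Bijective (g.hom.lTensor B) := ConcreteCategory.bijective_of_isIso ψ
    exact (Module.FaithfullyFlat.lTensor_bijective_iff_bijective A B _).1 hb

variable {X S : Scheme.{u}} (f : X ⟶ S)

/-- Conditions on morphisms to `X` stable under composition and local for flat coverings define fpqc sheaves. -/
theorem isSheaf_genPSp (Q : ∀ ⦃W : Scheme.{u}⦄, (W ⟶ X) → Prop)
    (hQ : ∀ ⦃W W' : Scheme.{u}⦄ (a : W' ⟶ W) (g : W ⟶ X), Q g → Q (a ≫ g))
    (hloc : ∀ ⦃W : Scheme.{u}⦄ (g : W ⟶ X),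
      (∀ y : W, ∃ (W' : Scheme.{u}) (a : W' ⟶ W) (x : W'), Flat a ∧ a x = y ∧ Q (a ≫ g)) → Q g) :
    Presheaf.IsSheaf (QuotSh.J Scheme.fpqcPrecoverage S)
      (FlatFun.genPSp S (fun T => Q (pullback.fst f T.hom))) := by
  have hst : ∀ ⦃T T₀ : Over S⦄ (_ : T ⟶ T₀), Q (pullback.fst f T₀.hom) → Q (pullback.fst f T.hom) := by
    intro T T' k h
    have := hQ (pullback.map f T.hom f T'.hom (𝟙 X) k.left (𝟙 S) (by simp) (by simp)) _ h
    rwa [pullback.lift_fst, Category.comp_id] at this
  rw [isSheaf_iff_isSheaf_of_type]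
  intro Y R hR
  obtain ⟨R₀, hR₀, hle⟩ := Precoverage.mem_toGrothendieck_iff_of_isStableUnderComposition.1
    ((GrothendieckTopology.mem_over_iff _ _).1 hR)
  obtain ⟨𝒰, rfl⟩ := (Precoverage.mem_iff_exists_zeroHypercover (J := Scheme.fpqcPrecoverage)).1 hR₀
  have hfl := (Scheme.presieve₀_mem_precoverage_iff 𝒰.toPreZeroHypercover).1 𝒰.mem₀.2
  intro x _
  have hP : Q (pullback.fst f Y.hom) := by
    refine hloc _ fun z => ?_
    obtain ⟨i, w, hw⟩ := hfl.1 (pullback.snd f Y.hom z)
    haveI : Flat (𝒰.f i) := hfl.2 i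
    have hi : Q (pullback.fst f (Over.mk (𝒰.f i ≫ Y.hom)).hom) := by
      refine (FlatFun.genPSp_nonempty_iff_of_stable (fun T => Q (pullback.fst f T.hom)) hst _).1
        ⟨x (Over.homMk (𝒰.f i) : Over.mk (𝒰.f i ≫ Y.hom) ⟶ Y)
          ((Sieve.overEquiv_iff R (𝒰.f i)).1 (hle _ _ (Presieve.ofArrows.mk i)))⟩
    have sq := (IsPullback.of_hasPullback (pullback.snd f Y.hom) (𝒰.f i)).paste_horiz
      (IsPullback.of_hasPullback f Y.hom)
    obtain ⟨p, hp, -⟩ := Scheme.Pullback.exists_preimage_pullback z w hw.symm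
    haveI : Flat (pullback.fst (pullback.snd f Y.hom) (𝒰.f i)) := MorphismProperty.pullback_fst _ _ inferInstance
    refine ⟨_, pullback.fst (pullback.snd f Y.hom) (𝒰.f i), p, inferInstance, hp, ?_⟩
    have := hQ sq.isoPullback.hom _ hi
    exact (congrArg (@Q _) sq.isoPullback_hom_fst).mp this
  obtain ⟨t⟩ := FlatFun.genPSp_nonempty_of (fun T => Q (pullback.fst f T.hom)) hP
  exact ⟨t, fun Z g hg => @Subsingleton.elim _ (FlatFun.genPSp_subsingleton _ _ _) _ _,
    fun t' _ => @Subsingleton.elim _ (FlatFun.genPSp_subsingleton _ _ _) _ _⟩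

variable {F G : X.Modules} (u : F ⟶ G)

theorem isSheaf_zero : Presheaf.IsSheaf (QuotSh.J Scheme.fpqcPrecoverage S)
    (FlatFun.genPSp S (fun T => (Scheme.Modules.pullback (pullback.fst f T.hom)).map u = 0)) := by
  refine isSheaf_genPSp f (fun W g => (Scheme.Modules.pullback g).map u = 0)
    (fun W W' a g h => (LimMod.comp_eq_zero_of a g _ rfl u).1 (by rw [h, Functor.map_zero])) fun W g h => ?_
  refine Synt29.ConormalExact.hom_ext_stalk _ _ fun y m => ?_
  obtain ⟨W', a, x, ha, rfl, h'⟩ := h y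
  haveI := ha
  have hz : (Scheme.Modules.pullback a).map ((Scheme.Modules.pullback g).map u) = 0 :=
    (LimMod.comp_eq_zero_of a g _ rfl u).2 h'
  have h2 := (stalk_descent a x ((Scheme.Modules.pullback g).map u)).1 (by rw [hz, Functor.map_zero])
  rw [h2, Functor.map_zero]

theorem isSheaf_epi : Presheaf.IsSheaf (QuotSh.J Scheme.fpqcPrecoverage S)
    (FlatFun.genPSp S (fun T => Epi ((Scheme.Modules.pullback (pullback.fst f T.hom)).map u))) := by
  refine isSheaf_genPSp f (fun W g => Epi ((Scheme.Modules.pullback g).map u))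
    (fun W W' a g h => LimMod.epi_precomp a g u h) fun W g h => ?_
  refine (epi_iff_stalk _).2 fun y => ?_
  obtain ⟨W', a, x, ha, rfl, h'⟩ := h y
  haveI := ha
  exact (stalk_descent a x _).2.1 ((LimMod.map_eq_map_iff _ u (LimMod.trIso a g _ rfl)).2 h')

theorem isSheaf_iso : Presheaf.IsSheaf (QuotSh.J Scheme.fpqcPrecoverage S)
    (FlatFun.genPSp S (fun T => IsIso ((Scheme.Modules.pullback (pullback.fst f T.hom)).map u))) := by
  refine isSheaf_genPSp f (fun W g => IsIso ((Scheme.Modules.pullback g).map u))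
    (fun W W' a g h => (NatIso.isIso_map_iff (LimMod.trIso a g _ rfl) u).1
      (inferInstanceAs (IsIso ((Scheme.Modules.pullback a).map ((Scheme.Modules.pullback g).map u))))) fun W g h => ?_
  let φ := (Scheme.Modules.pullback g).map u
  have hb : ∀ y, Function.Bijective ((DerSch.stalkFunctor W y).map φ) := fun y => by
    obtain ⟨W', a, x, ha, rfl, h'⟩ := h y
    haveI := ha
    exact (stalk_descent a x _).2.2 ((NatIso.isIso_map_iff (LimMod.trIso a g _ rfl) u).2 h')
  haveI : Mono φ := (mono_iff_stalk φ).2 fun y => (hb y).1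
  haveI : Epi φ := (epi_iff_stalk φ).2 fun y => (hb y).2
  exact isIso_of_mono_of_epi φ

end Groth.Agent.H4BC.FlatFunSheaf
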