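import Groth.Agent.H4BC.FlatDimSheaf
import Groth.Agent.H4BC.FlatFunSheaf
import Groth.Agent.UnivSep5.LocalReg
import Groth.Agent.QRepLib.Naive
import Groth.Agent.FittX.FinSet
import Groth.Agent.QCoh.LocFree
import Groth.Prelude.Def_FlatFun
import Mathlib

/-! Modules free near the generic points of the fibres of a smooth morphism. -/

set_option autoImplicit false
set_option linter.style.haveILetI false
set_option backward.isDefEq.respectTransparency false
set_option backward.isDefEq.respectTransparency.types false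

universe u

open CategoryTheory CategoryTheory.Limits AlgebraicGeometry Opposite TopologicalSpace
open scoped TensorProduct

namespace Groth.Agent.H4BC.GenPts

open Groth.Agent Groth.Agent.QCoh

/-- In a smooth algebra, an element killed outside the generic point of a fibre is killed near every
point of that fibre. -/
theorem exists_smul_eq_zero (A B : Type u) [CommRing A] [CommRing B] [Algebra A B] [Algebra.Smooth A B]
    (η q : Ideal B) [η.IsPrime] [q.IsPrime] (p : Ideal A) [p.IsPrime] (hη : η.comap (algebraMap A B) = p)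
    (hq : q.comap (algebraMap A B) = p)
    (hgen : ∀ q' : Ideal B, q'.IsPrime → q'.comap (algebraMap A B) = p → η ≤ q')
    {a x : B} (ha : a ∉ η) (hx : a * x = 0) : ∃ s ∉ q, s * x = 0 := by
  refine UnivSep5.exists_smul_eq_zero_of_regular_fibre A B B q p hq a (fun y hy => ?_) x hx
  haveI : _root_.IsReduced (p.ResidueField ⊗[A] B) := QRepLib.isReduced_of_smooth_algebra p.ResidueField _
  let e := PrimeSpectrum.primesOverOrderIsoFiber A B p
  let ι := Algebra.TensorProduct.includeRight (R := A) (A := p.ResidueField) (B := B)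
  have he : ∀ Q : p.primesOver B, (e Q).asIdeal.comap ι = Q.1 := fun Q =>
    congrArg Subtype.val (e.symm_apply_apply Q)
  have hηm : η ∈ p.primesOver B := ⟨inferInstance, ⟨hη.symm⟩⟩
  have hmin : ∀ Q : PrimeSpectrum (p.Fiber B), e ⟨η, hηm⟩ ≤ Q := fun Q => by
    conv_rhs => rw [← e.apply_symm_apply Q]
    exact e.monotone (hgen _ (e.symm Q).2.1 (e.symm Q).2.2.over.symm)
  have h0 : ι a * ι y = 0 := by rw [← map_mul]; exact hy
  have hy' : ι y ∈ (e ⟨η, hηm⟩).asIdeal := by
    refine ((e ⟨η, hηm⟩).2.mem_or_mem (h0 ▸ Ideal.zero_mem _ : ι a * ι y ∈ _)).resolve_left fun h => ha ?_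
    exact (he ⟨η, hηm⟩).le (Ideal.mem_comap.2 h)
  refine IsReduced.eq_zero (ι y) (nilpotent_iff_mem_prime.2 fun J hJ => ?_)
  exact hmin ⟨J, hJ⟩ hy'

variable {X T : Scheme.{u}}

/-- A function vanishing at the generic points of the fibres of a smooth morphism is zero. -/
theorem eq_zero_of_germ (q : X ⟶ T) [Smooth q] {V : X.Opens} (hV : IsAffineOpen V) {W : T.Opens}
    (hW : IsAffineOpen W) (hVW : V ≤ q ⁻¹ᵁ W) (c : Γ(X, V))
    (h : ∀ y ∈ V, ∃ (x : X) (hx : x ∈ V), q x = q y ∧ FlatFun.IsGenericPtOfFibre q x ∧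
      X.presheaf.germ V x hx c = 0) : c = 0 := by
  algebraize [(q.appLE W V hVW).hom]
  haveI : Algebra.Smooth Γ(T, W) Γ(X, V) := HasRingHomProperty.appLE @Smooth q inferInstance ⟨W, hW⟩ ⟨V, hV⟩ hVW
  refine TopCat.Presheaf.section_ext X.sheaf V c 0 fun y hy => ?_
  show X.presheaf.germ V y hy c = X.presheaf.germ V y hy 0
  rw [map_zero]
  obtain ⟨x, hx, hxy, hgen, hc⟩ := h y hy
  have hpre : ∀ z (hz : z ∈ V), (hV.primeIdealOf ⟨z, hz⟩).asIdeal.comap (algebraMap Γ(T, W) Γ(X, V)) =
      (hW.primeIdealOf ⟨q z, hVW hz⟩).asIdeal := fun z hz => by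
    rw [RingHom.algebraMap_toAlgebra]
    exact congrArg PrimeSpectrum.asIdeal (IsAffineOpen.comap_primeIdealOf_appLE (f := q) W hW V hV hVW hz)
  letI := stalkAlg (X := X) hx
  haveI := isLocalization_stalk' hV hx
  obtain ⟨a, ha⟩ := (IsLocalization.map_eq_zero_iff (hV.primeIdealOf ⟨x, hx⟩).asIdeal.primeCompl
    (X.presheaf.stalk x) c).1 hc
  obtain ⟨s, hs, hsc⟩ := exists_smul_eq_zero Γ(T, W) Γ(X, V) (hV.primeIdealOf ⟨x, hx⟩).asIdeal
    (hV.primeIdealOf ⟨y, hy⟩).asIdeal (hW.primeIdealOf ⟨q y, hVW hy⟩).asIdeal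
    ((hpre x hx).trans (by congr 3)) (hpre y hy) (fun q' hq' hcomap => by
      obtain ⟨z, hz, hze⟩ := exists_point hV ⟨q', hq'⟩
      have hzq : q z = q y := by
        have h2 := hpre z hz
        rw [hze, hcomap] at h2
        exact (hW.fromSpec_primeIdealOf ⟨q z, hVW hz⟩).symm.trans
          ((congrArg (fun P => hW.fromSpec P) (PrimeSpectrum.ext h2.symm)).trans
            (hW.fromSpec_primeIdealOf ⟨q y, hVW hy⟩))
      intro b hb
      by_contra hbq
      have hzD : z ∈ X.basicOpen b := (mem_basicOpen_iff_notMem hV hz b).2 (by rwa [hze])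
      have hspec : x ⤳ z := hgen z (hzq.trans hxy.symm)
      exact (mem_basicOpen_iff_notMem hV hx b).1 (hspec.mem_open (X.basicOpen b).2 hzD) hb)
    a.2 ha
  letI := stalkAlg (X := X) hy
  haveI := isLocalization_stalk' hV hy
  exact (IsLocalization.map_eq_zero_iff (hV.primeIdealOf ⟨y, hy⟩).asIdeal.primeCompl
    (X.presheaf.stalk y) c).2 ⟨⟨s, hs⟩, hsc⟩

/-- The stalk at `x` is free of rank `p`. -/
def StalkFree (p : ℕ) (F : X.Modules) (x : X) : Prop :=
  Module.Free (X.presheaf.stalk x) (F.presheaf.stalk x) ∧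
    Module.finrank (X.presheaf.stalk x) (F.presheaf.stalk x) = p

theorem StalkFree.of_iso {p : ℕ} {F G : X.Modules} (e : F ≅ G) {x : X} (h : StalkFree p F x) :
    StalkFree p G x :=
  let l : F.presheaf.stalk x ≃ₗ[X.presheaf.stalk x] G.presheaf.stalk x :=
    ((DerSch.stalkFunctor X x).mapIso e).toLinearEquiv
  haveI := h.1
  ⟨Module.Free.of_equiv l, l.finrank_eq.symm.trans h.2⟩

theorem stalkFree_of_near {p : ℕ} {F : X.Modules} (hF : Coh.IsQCoh F) {x : X}
    (h : FlatFun.IsFreeOfRankNear F p x) : StalkFree p F x := by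
  obtain ⟨U, hxU, ⟨e⟩⟩ := h
  obtain ⟨_, ⟨V, hV, rfl⟩, hx, hle⟩ :=
    X.isBasis_affineOpens.exists_subset_of_mem_open (show x ∈ U from hxU) U.2
  have hV' : IsAffineOpen V := hV
  obtain ⟨l⟩ := free_sections hV' hle e
  refine ⟨?_, finrank_stalk_of_freeChart hV' hF l hx⟩
  haveI : Module.Free Γ(X, V) Γ(F, V) := Module.Free.of_equiv l.symm
  letI := stalkAlg (X := X) hx
  letI := stalkModule F hx
  haveI := isScalarTower_stalk F hx
  haveI := isLocalization_stalk' hV' hx
  haveI := isLocalizedModule_germLin hF hV' hx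
  exact Module.free_of_isLocalizedModule (hV'.primeIdealOf ⟨x, hx⟩).asIdeal.primeCompl (germLin F hx)

/-- Near a point with free stalk of rank `p` there are `p` generating sections. -/
theorem exists_generators {p : ℕ} {F : X.Modules} (hF : Coh.IsQCoh F) {V : X.Opens} (hV : IsAffineOpen V)
    [Module.Finite Γ(X, V) Γ(F, V)] {x : X} (hx : x ∈ V) (h : StalkFree p F x) :
    ∃ (g : Fin p → Γ(F, V)) (a : Γ(X, V)), x ∈ X.basicOpen a ∧
      ∀ y, a • y ∈ Submodule.span Γ(X, V) (Set.range g) := by
  classical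
  letI := stalkAlg (X := X) hx
  letI := stalkModule F hx
  haveI := isScalarTower_stalk F hx
  haveI := isLocalization_stalk' hV hx
  haveI := isLocalizedModule_germLin hF hV hx
  let S := (hV.primeIdealOf ⟨x, hx⟩).asIdeal.primeCompl
  haveI := h.1
  haveI : Module.Finite (X.presheaf.stalk x) (F.presheaf.stalk x) :=
    Module.Finite.of_isLocalizedModule S (germLin F hx)
  let b := (Module.finBasis (X.presheaf.stalk x) (F.presheaf.stalk x)).reindex (finCongr h.2)
  choose m hm using fun i => IsLocalizedModule.surj S (germLin F hx) (b i)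
  let g : Fin p → Γ(F, V) := fun i => (m i).1
  have hg : Submodule.span (X.presheaf.stalk x) (germLin F hx '' Set.range g) = ⊤ := by
    rw [eq_top_iff, ← b.span_eq, Submodule.span_le]
    rintro _ ⟨i, rfl⟩
    have hu : IsUnit (algebraMap Γ(X, V) (X.presheaf.stalk x) ((m i).2 : Γ(X, V))) :=
      IsLocalization.map_units _ (m i).2
    refine (Submodule.smul_mem_iff_of_isUnit _ hu).1 (Submodule.subset_span ⟨g i, ⟨i, rfl⟩, ?_⟩)
    rw [algebraMap_smul]
    exact (hm i).symm
  have hloc : ∀ y, ∃ s ∈ S, s • y ∈ Submodule.span Γ(X, V) (Set.range g) := fun y => by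
    have hy : germLin F hx y ∈ (Submodule.span Γ(X, V) (Set.range g)).localized' (X.presheaf.stalk x) S
        (germLin F hx) := by
      rw [Submodule.localized'_span, hg]; trivial
    obtain ⟨n, hn, s, hs⟩ := hy
    rw [IsLocalizedModule.mk'_eq_iff, Submonoid.smul_def, ← map_smul] at hs
    obtain ⟨c, hc⟩ := (IsLocalizedModule.eq_iff_exists S (germLin F hx)).1 hs
    refine ⟨(c : Γ(X, V)) * s, S.mul_mem c.2 s.2, ?_⟩
    rw [mul_smul]
    rw [Submonoid.smul_def, Submonoid.smul_def] at hc
    rw [← hc]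
    exact Submodule.smul_mem _ _ hn
  choose s hs hsy using hloc
  obtain ⟨G, hG⟩ := (Module.Finite.fg_top : (⊤ : Submodule Γ(X, V) Γ(F, V)).FG)
  refine ⟨g, ∏ y ∈ G, s y, (mem_basicOpen_iff_notMem hV hx _).2 (prod_mem fun y _ => hs y), fun y => ?_⟩
  have hy : y ∈ Submodule.span Γ(X, V) (G : Set Γ(F, V)) := hG ▸ trivial
  induction hy using Submodule.span_induction with
  | mem y hy =>
    rw [← Finset.prod_erase_mul _ _ hy, mul_smul]
    exact Submodule.smul_mem _ _ (hsy y)
  | zero => simp
  | add a b _ _ ha hb => rw [smul_add]; exact add_mem ha hb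
  | smul c a _ ha => rw [smul_comm]; exact Submodule.smul_mem _ c ha

/-- For a smooth morphism and a module of finite type, free stalks of rank `p` at the generic points of
the fibres give freeness near them. -/
theorem freeAtGenericPts_iff (q : X ⟶ T) [Smooth q] {F : X.Modules} (hF : Coh.IsQCoh F) (hft : CohB1.IsFT F)
    (p : ℕ) : FlatFun.FreeAtGenericPts q F p ↔
      ∀ t : T, ∃ x : X, q x = t ∧ FlatFun.IsGenericPtOfFibre q x ∧ StalkFree p F x := by
  refine ⟨fun h t => (h t).imp fun x ⟨h1, h2, h3⟩ => ⟨h1, h2, stalkFree_of_near hF h3⟩, fun h t => ?_⟩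
  obtain ⟨x, hxt, hgen, hsf⟩ := h t
  refine ⟨x, hxt, hgen, ?_⟩
  obtain ⟨_, ⟨W, hW, rfl⟩, htW, -⟩ :=
    T.isBasis_affineOpens.exists_subset_of_mem_open (Set.mem_univ (q x)) isOpen_univ
  obtain ⟨_, ⟨V, hV, rfl⟩, hx, hVW⟩ :=
    X.isBasis_affineOpens.exists_subset_of_mem_open (show x ∈ q ⁻¹ᵁ W from htW) (q ⁻¹ᵁ W).2
  have hV' : IsAffineOpen V := hV
  haveI := finite_of_isFT hF hft hV'
  obtain ⟨g, a, hxa, hg⟩ := exists_generators hF hV' hx hsf
  refine ⟨X.basicOpen a, hxa, ?_⟩
  letI := basicModule a F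
  haveI : IsScalarTower Γ(X, V) Γ(X, X.basicOpen a) Γ(F, X.basicOpen a) :=
    IsScalarTower.of_algebraMap_smul fun _ _ => rfl
  haveI := hV'.isLocalization_basicOpen a
  have hD : IsAffineOpen (X.basicOpen a) := hV'.basicOpen a
  have hspan := FittX.span_eq_top_of_smul_mem (FittX.isBaseChange_basicRes hF hV' a)
    (IsLocalization.Away.algebraMap_isUnit a) hg
  let gD : Fin p → Γ(F, X.basicOpen a) := basicRes a F ∘ g
  have hli : LinearIndependent Γ(X, X.basicOpen a) gD := by
    rw [Fintype.linearIndependent_iff]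
    intro c hc i
    refine eq_zero_of_germ q hD hW ((X.basicOpen_le a).trans hVW) (c i) fun y hy => ?_
    obtain ⟨x', hx't, hgen', hsf'⟩ := h (q y)
    have hx' : x' ∈ X.basicOpen a := (hgen' y hx't.symm).mem_open (X.basicOpen a).2 hy
    refine ⟨x', hx', hx't, hgen', ?_⟩
    letI := stalkAlg (X := X) hx'
    letI := stalkModule F hx'
    haveI := isScalarTower_stalk F hx'
    haveI := isLocalization_stalk' hD hx'
    haveI := isLocalizedModule_germLin hF hD hx'
    let S := (hD.primeIdealOf ⟨x', hx'⟩).asIdeal.primeCompl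
    have hs : Submodule.span (X.presheaf.stalk x') (germLin F hx' '' Set.range gD) = ⊤ := by
      rw [← Submodule.localized'_span _ S (germLin F hx'), hspan, Submodule.localized'_top]
    haveI := hsf'.1
    haveI : Module.Finite (X.presheaf.stalk x') (F.presheaf.stalk x') := ⟨⟨_, by
      rw [← hs]; exact congrArg _ ((Set.finite_range gD).image _).coe_toFinset⟩⟩
    let e := ((Module.finBasis (X.presheaf.stalk x') (F.presheaf.stalk x')).reindex (finCongr hsf'.2)).equivFun
    let φ := Fintype.linearCombination (X.presheaf.stalk x') (germLin F hx' ∘ gD)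
    have hφ : Function.Surjective φ := LinearMap.range_eq_top.1 (by
      rw [Fintype.range_linearCombination, Set.range_comp, hs])
    have hinj : Function.Injective (e.toLinearMap ∘ₗ φ) :=
      OrzechProperty.injective_of_surjective_endomorphism _ (e.surjective.comp hφ)
    have h0 : φ (fun j => algebraMap Γ(X, X.basicOpen a) (X.presheaf.stalk x') (c j)) = 0 := by
      rw [Fintype.linearCombination_apply]
      simp only [Function.comp_apply, algebraMap_smul, ← map_smul, ← map_sum, hc, map_zero]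
    exact congrFun (hinj (congrArg e (h0.trans (map_zero φ).symm))) i
  exact exists_free_restrict hF hD ((Module.Basis.mk hli hspan.ge).reindex Equiv.ulift.symm).repr

/-- Stalks of a pullback: free of rank `p` goes up, and down along flat morphisms. -/
theorem stalkFree_pullback {X' : Scheme.{u}} (a : X' ⟶ X) (F : X.Modules) (x : X') {p : ℕ}
    (h : StalkFree p F (a x)) : StalkFree p ((Scheme.Modules.pullback a).obj F) x := by
  let A := X.presheaf.stalk (a x)
  let B := X'.presheaf.stalk x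
  letI : Algebra A B := (a.stalkMap x).hom.toAlgebra
  let l : ((Scheme.Modules.pullback a).obj F).presheaf.stalk x ≃ₗ[B] B ⊗[A] F.presheaf.stalk (a x) :=
    ((KFlatLib.stalkPullbackIso a x).app F).toLinearEquiv
  haveI : Module.Free A (F.presheaf.stalk (a x)) := h.1
  exact ⟨Module.Free.of_equiv l.symm, l.finrank_eq.trans (Module.finrank_baseChange.trans h.2)⟩

theorem stalkFree_descent {X' : Scheme.{u}} (a : X' ⟶ X) [Flat a] {F : X.Modules} (hF : Coh.IsQCoh F)
    (hft : CohB1.IsFT F) (x : X') {p : ℕ} (h : StalkFree p ((Scheme.Modules.pullback a).obj F) x) :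
    StalkFree p F (a x) := by
  let A := X.presheaf.stalk (a x)
  let B := X'.presheaf.stalk x
  letI : Algebra A B := (a.stalkMap x).hom.toAlgebra
  haveI : IsLocalHom (algebraMap A B) := inferInstanceAs (IsLocalHom (a.stalkMap x).hom)
  haveI : Module.Flat A B := Flat.stalkMap a x
  haveI : Module.FaithfullyFlat A B := Module.FaithfullyFlat.of_flat_of_isLocalHom
  let l : ((Scheme.Modules.pullback a).obj F).presheaf.stalk x ≃ₗ[B] B ⊗[A] F.presheaf.stalk (a x) :=
    ((KFlatLib.stalkPullbackIso a x).app F).toLinearEquiv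
  haveI : Module.Free B (B ⊗[A] F.presheaf.stalk (a x)) :=
    haveI := h.1; Module.Free.of_equiv l
  haveI : Module.Flat A (F.presheaf.stalk (a x)) := Module.Flat.of_flat_tensorProduct A _ B
  haveI : Module.Finite A (F.presheaf.stalk (a x)) := finite_stalk_of_isFT hF hft (a x)
  haveI : Module.Free A (F.presheaf.stalk (a x)) := Module.free_of_flat_of_isLocalRing
  exact ⟨inferInstance, (Module.finrank_baseChange (R := B)).symm.trans (l.finrank_eq.symm.trans h.2)⟩

variable {S : Scheme.{u}}

/-- A generic point of a fibre maps to a generic point of a fibre under base change. -/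
theorem isGenericPtOfFibre_map {X' T' : Scheme.{u}} {q : X ⟶ T} {q' : X' ⟶ T'} {a : X' ⟶ X} {b : T' ⟶ T}
    (sq : IsPullback a q' q b) {x' : X'} (h : FlatFun.IsGenericPtOfFibre q' x') :
    FlatFun.IsGenericPtOfFibre q (a x') := by
  intro z hz
  have hc : q (a x') = b (q' x') := by
    rw [← Scheme.Hom.comp_apply, sq.w, Scheme.Hom.comp_apply]
  obtain ⟨z', hz', hz''⟩ := Scheme.Pullback.exists_preimage_pullback z (q' x') (hz.trans hc)
  let w := sq.isoPullback.inv z'
  have h1 : a w = z := by rw [← hz', ← Scheme.Hom.comp_apply, sq.isoPullback_inv_fst]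
  have h2 : q' w = q' x' := by rw [← hz'', ← Scheme.Hom.comp_apply, sq.isoPullback_inv_snd]
  exact h1 ▸ (h w h2).map a.continuous

/-- Fibres of a geometrically irreducible morphism have generic points. -/
theorem exists_isGenericPtOfFibre (q : X ⟶ T) [GeometricallyIrreducible q] (t : T) :
    ∃ x : X, q x = t ∧ FlatFun.IsGenericPtOfFibre q x := by
  let η := genericPoint (q.fiber t)
  have h : ∀ w : q.fiber t, q (q.fiberι t w) = t := fun w =>
    (q.range_fiberι t).le ⟨w, rfl⟩
  refine ⟨q.fiberι t η, h η, fun z hz => ?_⟩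
  obtain ⟨w, rfl⟩ : z ∈ Set.range (q.fiberι t) := (q.range_fiberι t).ge (hz.trans (h η))
  exact (genericPoint_specializes w).map (q.fiberι t).continuous

variable (f : X ⟶ S)

/-- The functor `H_p` is an fpqc sheaf. -/
theorem isSheaf_freeAtGenericPts [Smooth f] [GeometricallyIrreducible f] (F : X.Modules) (hF : Coh.IsQCoh F)
    (hft : CohB1.IsFT F) (p : ℕ) :
    Presheaf.IsSheaf (QuotSh.J Scheme.fpqcPrecoverage S)
      (FlatFun.genPSp S (fun T => FlatFun.FreeAtGenericPts (PicF.XTproj f T) (FGA.ET f F T) p)) := by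
  have hq := fun T : Over S => isQCoh_pullback (pullback.fst f T.hom) hF
  have hf := fun T : Over S => FittX.isFT_pullback (pullback.fst f T.hom) hF hft
  have hsm : ∀ T : Over S, Smooth (PicF.XTproj f T) := fun T => MorphismProperty.pullback_snd _ _ inferInstance
  have hgi : ∀ T : Over S, GeometricallyIrreducible (PicF.XTproj f T) := fun T =>
    MorphismProperty.pullback_snd _ _ inferInstance
  let tr : ∀ {Y Y' : Over S} (k : Y' ⟶ Y), FGA.ET f F Y' ≅
      (Scheme.Modules.pullback (pullback.map f Y'.hom f Y.hom (𝟙 X) k.left (𝟙 S) (by simp) (by simp))).obj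
        (FGA.ET f F Y) := fun {Y Y'} k =>
    (((Scheme.Modules.pullbackComp _ (pullback.fst f Y.hom)).app F ≪≫
      (Scheme.Modules.pullbackCongr ((pullback.lift_fst _ _ _).trans (Category.comp_id _))).app F)).symm
  refine FlatDimSheaf.isSheaf_of_local _ (fun Y' Y k h => ?_) fun Y h => ?_
  · haveI := hsm Y; haveI := hsm Y'; haveI := hgi Y'
    refine (freeAtGenericPts_iff _ (hq Y') (hf Y') p).2 fun t' => ?_
    obtain ⟨x', hx't, hx'⟩ := exists_isGenericPtOfFibre (PicF.XTproj f Y') t'
    obtain ⟨x, hxt, hgen, hsf⟩ := (freeAtGenericPts_iff _ (hq Y) (hf Y) p).1 h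
      (PicF.XTproj f Y ((pullback.map f Y'.hom f Y.hom (𝟙 X) k.left (𝟙 S) (by simp) (by simp)) x'))
    have he := isGenericPtOfFibre_map (FlatDimSheaf.sq f k) hx'
    have : x = (pullback.map f Y'.hom f Y.hom (𝟙 X) k.left (𝟙 S) (by simp) (by simp)) x' :=
      ((hgen _ hxt.symm).antisymm (he x hxt)).eq
    exact ⟨x', hx't, hx', (stalkFree_pullback _ _ x' (this ▸ hsf)).of_iso (tr k).symm⟩
  · haveI := hsm Y
    refine (freeAtGenericPts_iff _ (hq Y) (hf Y) p).2 fun t => ?_
    obtain ⟨Y', k, t', hk, ht', hP⟩ := h t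
    haveI := hsm Y'
    obtain ⟨x', hx't, hgen, hsf⟩ := (freeAtGenericPts_iff _ (hq Y') (hf Y') p).1 hP t'
    haveI : Flat (pullback.map f Y'.hom f Y.hom (𝟙 X) k.left (𝟙 S) (by simp) (by simp)) :=
      MorphismProperty.of_isPullback (P := @Flat) (FlatDimSheaf.sq f k).flip hk
    refine ⟨_, ?_, isGenericPtOfFibre_map (FlatDimSheaf.sq f k) hgen,
      stalkFree_descent _ (hq Y) (hf Y) x' (hsf.of_iso (tr k))⟩
    show pullback.snd f Y.hom _ = t
    rw [← ht', ← hx't]
    exact (Scheme.Hom.comp_apply _ _ _).symm.trans (congrArg (fun m : pullback f Y'.hom ⟶ Y.left => m x') (FlatDimSheaf.sq f k).w)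

end Groth.Agent.H4BC.GenPts
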