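import Groth.Agent.FibFlatMod.FlatDimLim
import Groth.Agent.BigSiteLib.PiFpqc
import Groth.Agent.S1392
import Mathlib

/-! The fpqc sheaf condition for flatness in dimensions `≥ n`. -/

set_option autoImplicit false
set_option linter.style.haveILetI false
set_option backward.isDefEq.respectTransparency false
set_option backward.isDefEq.respectTransparency.types false

universe u

open CategoryTheory CategoryTheory.Limits AlgebraicGeometry Opposite TopologicalSpace

namespace Groth.Agent.H4BC.FlatDimSheaf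

open Groth.Agent

variable {S : Scheme.{u}}

/-- A stable condition which is local for flat coverings defines an fpqc sheaf. -/
theorem isSheaf_of_local (P : Over S → Prop) (hst : ∀ ⦃T T₀ : Over S⦄ (_ : T ⟶ T₀), P T₀ → P T)
    (hloc : ∀ Y : Over S, (∀ t : Y.left, ∃ (Y' : Over S) (k : Y' ⟶ Y) (t' : Y'.left),
      Flat k.left ∧ k.left t' = t ∧ P Y') → P Y) :
    Presheaf.IsSheaf (QuotSh.J Scheme.fpqcPrecoverage S) (FlatFun.genPSp S P) := by
  rw [isSheaf_iff_isSheaf_of_type]
  intro Y R hR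
  obtain ⟨R₀, hR₀, hle⟩ := Precoverage.mem_toGrothendieck_iff_of_isStableUnderComposition.1
    ((GrothendieckTopology.mem_over_iff _ _).1 hR)
  obtain ⟨𝒰, rfl⟩ := (Precoverage.mem_iff_exists_zeroHypercover (J := Scheme.fpqcPrecoverage)).1 hR₀
  have hfl := (Scheme.presieve₀_mem_precoverage_iff 𝒰.toPreZeroHypercover).1 𝒰.mem₀.2
  intro x _
  have hP : P Y := by
    refine hloc Y fun t => ?_
    obtain ⟨i, w, hw⟩ := hfl.1 t
    exact ⟨_, (Over.homMk (𝒰.f i) : Over.mk (𝒰.f i ≫ Y.hom) ⟶ Y), w, hfl.2 i, hw,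
      (FlatFun.genPSp_nonempty_iff_of_stable P hst _).1
        ⟨x (Over.homMk (𝒰.f i) : Over.mk (𝒰.f i ≫ Y.hom) ⟶ Y)
          ((Sieve.overEquiv_iff R (𝒰.f i)).1 (hle _ _ (Presieve.ofArrows.mk i)))⟩⟩
  obtain ⟨t⟩ := FlatFun.genPSp_nonempty_of P hP
  exact ⟨t, fun Z g hg => @Subsingleton.elim _ (FlatFun.genPSp_subsingleton _ _ _) _ _,
    fun t' _ => @Subsingleton.elim _ (FlatFun.genPSp_subsingleton _ _ _) _ _⟩

variable {X : Scheme.{u}} (f : X ⟶ S)

/-- The base change square over a morphism of schemes over `S`. -/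
theorem sq {Y Y' : Over S} (k : Y' ⟶ Y) :
    IsPullback (pullback.map f Y'.hom f Y.hom (𝟙 X) k.left (𝟙 S) (by simp) (by simp))
      (pullback.snd f Y'.hom) (pullback.snd f Y.hom) k.left := by
  refine IsPullback.of_right ?_ (pullback.lift_snd _ _ _) (IsPullback.of_hasPullback f Y.hom)
  rw [pullback.lift_fst, Category.comp_id, Over.w]
  exact IsPullback.of_hasPullback f Y'.hom

/-- Flatness in dimensions `≥ n` is an fpqc sheaf condition. -/
theorem isSheaf_flatDim [LocallyOfFiniteType f] (F : X.Modules) (hF : Coh.IsQCoh F) (n : ℕ) :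
    Presheaf.IsSheaf (QuotSh.J Scheme.fpqcPrecoverage S)
      (FlatFun.genPSp S (fun T => FlatFun.DimFibresLT n (PicF.XTproj f T)
        {x | ¬ FlatMod.IsFlatOverAt (PicF.XTproj f T) (FGA.ET f F T) x})) := by
  refine isSheaf_of_local _ (fun Y' Y k h => ?_) fun Y h => ?_
  · rw [FibFlatMod.dimFibresLT_iff] at h ⊢
    exact fun x hx => FibFlatMod.rd_lt_bc (sq f k) (pullback.fst f Y.hom) (pullback.fst f Y'.hom)
      ((pullback.lift_fst _ _ _).trans (Category.comp_id _)) F n (fun z hz => h z hz) x hx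
  · rw [FibFlatMod.dimFibresLT_iff]
    intro z hz
    obtain ⟨Y', k, t', hk, ht', hP⟩ := h (pullback.snd f Y.hom z)
    rw [FibFlatMod.dimFibresLT_iff] at hP
    obtain ⟨z', hz', -, hrd⟩ := FibDim.exists_rd_baseChange_eq (sq f k) z t' ht'.symm
    refine hrd ▸ hP z' fun hflat => hz ?_
    haveI := hk
    subst hz'
    refine S1392.result _ _ _ _ (sq f k) _ (QCoh.isQCoh_pullback (pullback.fst f Y.hom) hF) z' (Flat.stalkMap _ _) ?_
    exact GrFlat5.isFlatOverAt_of_iso _
      (((Scheme.Modules.pullbackComp _ (pullback.fst f Y.hom)).app F ≪≫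
        (Scheme.Modules.pullbackCongr ((pullback.lift_fst _ _ _).trans (Category.comp_id _))).app F).symm) z' hflat

end Groth.Agent.H4BC.FlatDimSheaf
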