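import Groth.Agent.H4BC.FlatDimSheaf
import Groth.Agent.H4BC.FlatFunSheaf

/-! Flatness and injectivity of base changes are local for fpqc coverings. -/

set_option autoImplicit false
set_option linter.style.haveILetI false
set_option backward.isDefEq.respectTransparency false
set_option backward.isDefEq.respectTransparency.types false

universe u

open CategoryTheory CategoryTheory.Limits AlgebraicGeometry Opposite TopologicalSpace

namespace Groth.Agent.H4BC.FlatSheaf0

open Groth.Agent Groth.Agent.Synt29 OmegaStalk Groth.Agent.KFlatLib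

variable {X S : Scheme.{u}} (f : X ⟶ S)

/-- Flatness is an fpqc sheaf condition. -/
theorem isSheaf_flat (F : X.Modules) (hF : Coh.IsQCoh F) :
    Presheaf.IsSheaf (QuotSh.J Scheme.fpqcPrecoverage S)
      (FlatFun.genPSp S (fun T => FlatMod.IsFlatOver (PicF.XTproj f T) (FGA.ET f F T))) := by
  refine FlatDimSheaf.isSheaf_of_local _ (fun Y' Y k h => ?_) fun Y h z => ?_
  · exact fun x => FibFlatMod.isFlatOverAt_bc (FlatDimSheaf.sq f k) (pullback.fst f Y.hom) (pullback.fst f Y'.hom)
      ((pullback.lift_fst _ _ _).trans (Category.comp_id _)) F x (h _)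
  · obtain ⟨Y', k, t', hk, ht', hP⟩ := h (pullback.snd f Y.hom z)
    obtain ⟨p, hp, -⟩ := Scheme.Pullback.exists_preimage_pullback (f := pullback.snd f Y.hom) (g := k.left) z t' ht'.symm
    let z' := (FlatDimSheaf.sq f k).isoPullback.inv p
    obtain rfl : (pullback.map f Y'.hom f Y.hom (𝟙 X) k.left (𝟙 S) (by simp) (by simp)) z' = z := by
      rw [← hp, ← Scheme.Hom.comp_apply, IsPullback.isoPullback_inv_fst]
    haveI := hk
    refine S1392.result _ _ _ _ (FlatDimSheaf.sq f k) _ (QCoh.isQCoh_pullback (pullback.fst f Y.hom) hF) z' (Flat.stalkMap _ _) ?_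
    exact GrFlat5.isFlatOverAt_of_iso _
      (((Scheme.Modules.pullbackComp _ (pullback.fst f Y.hom)).app F ≪≫
        (Scheme.Modules.pullbackCongr ((pullback.lift_fst _ _ _).trans (Category.comp_id _))).app F).symm) z' (hP _)

theorem mono_stalk_descent {Z' Z : Scheme.{u}} (a : Z' ⟶ Z) [Flat a] (x : Z') {M N : Z.Modules} (φ : M ⟶ N) :
    Function.Injective ((DerSch.stalkFunctor Z' x).map ((Scheme.Modules.pullback a).map φ)) ↔
      Function.Injective ((DerSch.stalkFunctor Z (a x)).map φ) := by
  let A := Z.presheaf.stalk (a x)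
  let B := Z'.presheaf.stalk x
  letI : Algebra A B := (a.stalkMap x).hom.toAlgebra
  haveI : IsLocalHom (algebraMap A B) := inferInstanceAs (IsLocalHom (a.stalkMap x).hom)
  haveI : Module.Flat A B := Flat.stalkMap a x
  haveI : Module.FaithfullyFlat A B := Module.FaithfullyFlat.of_flat_of_isLocalHom
  let g := (DerSch.stalkFunctor Z (a x)).map φ
  let ψ := (ModuleCat.extendScalars (a.stalkMap x).hom).map g
  let e : Arrow.mk ((DerSch.stalkFunctor Z' x).map ((Scheme.Modules.pullback a).map φ)) ≅ Arrow.mk ψ :=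
    ((Functor.mapArrowFunctor _ _).mapIso (stalkPullbackIso a x)).app (Arrow.mk φ)
  rw [← ModuleCat.mono_iff_injective, ← ModuleCat.mono_iff_injective]
  refine ((MorphismProperty.monomorphisms _).arrow_mk_iso_iff e).trans ?_
  refine (ModuleCat.mono_iff_injective ψ).trans
    (Iff.trans ?_ (ModuleCat.mono_iff_injective g).symm)
  exact Module.FaithfullyFlat.lTensor_injective_iff_injective A B g.hom

theorem mono_iff_cover {F G : X.Modules} (u : F ⟶ G) (T : Over S) {ι : Type u} (Ti : ι → Over S) (g : ∀ i, Ti i ⟶ T)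
    (hcov : Presieve.ofArrows (fun i => (Ti i).left) (fun i => (g i).left) ∈ Scheme.fpqcPrecoverage T.left) :
    Mono ((Scheme.Modules.pullback (pullback.fst f T.hom)).map u) ↔
      ∀ i, Mono ((Scheme.Modules.pullback (pullback.fst f (Ti i).hom)).map u) := by
  let 𝒰 : PreZeroHypercover.{u} T.left := { I₀ := ι, X := fun i => (Ti i).left, f := fun i => (g i).left }
  have hfl := (Scheme.presieve₀_mem_precoverage_iff 𝒰).1 hcov.2
  let ψ := (Scheme.Modules.pullback (pullback.fst f T.hom)).map u
  let a : ∀ i, pullback f (Ti i).hom ⟶ pullback f T.hom := fun i =>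
    pullback.map f (Ti i).hom f T.hom (𝟙 X) (g i).left (𝟙 S) (by simp) (by simp)
  have ha : ∀ i, Flat (a i) := fun i =>
    MorphismProperty.of_isPullback (P := @Flat) (FlatDimSheaf.sq f (g i)).flip (hfl.2 i)
  have hmono : ∀ i, Mono ((Scheme.Modules.pullback (pullback.fst f (Ti i).hom)).map u) ↔
      Mono ((Scheme.Modules.pullback (a i)).map ψ) := fun i =>
    ((MorphismProperty.monomorphisms _).arrow_mk_iso_iff
      (((Functor.mapArrowFunctor _ _).mapIso (LimMod.trIso (a i) (pullback.fst f T.hom) (pullback.fst f (Ti i).hom)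
        ((pullback.lift_fst _ _ _).trans (Category.comp_id _)))).app (Arrow.mk u))).symm
  simp only [hmono]
  refine ⟨fun h i => (mono_iff_stalk _).2 fun x => ?_, fun h => (mono_iff_stalk _).2 fun z => ?_⟩
  · haveI := ha i
    exact (mono_stalk_descent (a i) x ψ).2 ((mono_iff_stalk ψ).1 h _)
  · obtain ⟨i, w, hw⟩ := hfl.1 (pullback.snd f T.hom z)
    obtain ⟨p, hp, -⟩ := Scheme.Pullback.exists_preimage_pullback (f := pullback.snd f T.hom) (g := (g i).left) z w hw.symm
    obtain rfl : a i ((FlatDimSheaf.sq f (g i)).isoPullback.inv p) = z := by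
      rw [← hp, ← Scheme.Hom.comp_apply, IsPullback.isoPullback_inv_fst]
    haveI := ha i
    exact (mono_stalk_descent (a i) _ ψ).1 ((mono_iff_stalk _).1 (h i) _)

end Groth.Agent.H4BC.FlatSheaf0
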