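import Groth.Agent.H4BC.GenPts
import Groth.Agent.H4BC.Content.Content
import Groth.Agent.H4BC.Content.ClosedLocal
import Groth.Agent.FittX.Crit
import Mathlib

/-! The condition "free of rank `p` near the generic points" is locally cut out by an ideal. -/

set_option autoImplicit false
set_option linter.style.haveILetI false
set_option backward.isDefEq.respectTransparency false
set_option backward.isDefEq.respectTransparency.types false

universe u

open CategoryTheory CategoryTheory.Limits AlgebraicGeometry Opposite TopologicalSpace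
open scoped TensorProduct

namespace Groth.Agent.H4BC.GenPts

open Groth.Agent Groth.Agent.QCoh

variable {X S : Scheme.{u}}

/-- The points near which `F` is generated by `p` sections. -/
def genBy (F : X.Modules) (p : ℕ) : Set X :=
  {x | ∃ (V : X.Opens) (_ : IsAffineOpen V) (g : Fin p → Γ(F, V)), x ∈ V ∧
    Submodule.span Γ(X, V) (Set.range g) = ⊤}

theorem isOpen_genBy (F : X.Modules) (p : ℕ) : IsOpen (genBy F p) :=
  isOpen_iff_forall_mem_open.2 fun _ ⟨V, hV, g, hx, hg⟩ =>
    ⟨V, fun _ hy => ⟨V, hV, g, hy, hg⟩, V.2, hx⟩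

theorem span_germ {F : X.Modules} (hF : Coh.IsQCoh F) {V : X.Opens} (hV : IsAffineOpen V) {p : ℕ}
    {g : Fin p → Γ(F, V)} (hg : Submodule.span Γ(X, V) (Set.range g) = ⊤) {x : X} (hx : x ∈ V) :
    Submodule.span (X.presheaf.stalk x) (Set.range fun i => F.presheaf.germ V x hx (g i)) = ⊤ := by
  letI := stalkAlg (X := X) hx
  letI := stalkModule F hx
  haveI := isScalarTower_stalk F hx
  haveI := isLocalization_stalk' hV hx
  haveI := isLocalizedModule_germLin hF hV hx
  show Submodule.span (X.presheaf.stalk x) (Set.range fun i => germLin F hx (g i)) = ⊤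
  rw [Set.range_comp' (germLin F hx) g,
    ← Submodule.localized'_span (X.presheaf.stalk x) (hV.primeIdealOf ⟨x, hx⟩).asIdeal.primeCompl (germLin F hx),
    hg, Submodule.localized'_top]

theorem mem_genBy_of_not_le {F : X.Modules} (hF : Coh.IsQCoh F) {V : X.Opens} (hV : IsAffineOpen V)
    [Module.Finite Γ(X, V) Γ(F, V)] {p : ℕ} {x : X} (hx : x ∈ V)
    (h : ¬ Fitt.ideal Γ(X, V) Γ(F, V) p ≤ (hV.primeIdealOf ⟨x, hx⟩).asIdeal) : x ∈ genBy F p := by
  obtain ⟨d, hd, -, g, hg⟩ := FittX.exists_smul_mem_span h
  letI := basicModule d F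
  haveI : IsScalarTower Γ(X, V) Γ(X, X.basicOpen d) Γ(F, X.basicOpen d) :=
    IsScalarTower.of_algebraMap_smul fun _ _ => rfl
  haveI := hV.isLocalization_basicOpen d
  exact ⟨X.basicOpen d, hV.basicOpen d, _, (mem_basicOpen_iff_notMem hV hx d).2 hd,
    FittX.span_eq_top_of_smul_mem (FittX.isBaseChange_basicRes hF hV d)
      (IsLocalization.Away.algebraMap_isUnit d) hg⟩

theorem not_le_of_mem_genBy {F : X.Modules} (hF : Coh.IsQCoh F) {V : X.Opens} (hV : IsAffineOpen V)
    [Module.Finite Γ(X, V) Γ(F, V)] {p : ℕ} {x : X} (hx : x ∈ V) (h : x ∈ genBy F p) :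
    ¬ Fitt.ideal Γ(X, V) Γ(F, V) p ≤ (hV.primeIdealOf ⟨x, hx⟩).asIdeal := by
  obtain ⟨V', hV', g, hx', hg⟩ := h
  letI := stalkAlg (X := X) hx
  letI := stalkModule F hx
  haveI := isScalarTower_stalk F hx
  haveI := isLocalization_stalk' hV hx
  haveI := isLocalizedModule_germLin hF hV hx
  refine FittX.not_le_of_span_eq_top (IsLocalizedModule.isBaseChange
    (hV.primeIdealOf ⟨x, hx⟩).asIdeal.primeCompl (X.presheaf.stalk x) (germLin F hx)) (span_germ hF hV' hg hx') ?_
  rw [IsLocalization.AtPrime.map_eq_maximalIdeal (hV.primeIdealOf ⟨x, hx⟩).asIdeal (X.presheaf.stalk x)]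
  exact (IsLocalRing.maximalIdeal.isMaximal _).ne_top

/-- If a pullback has a free stalk of rank `p`, the module is generated by `p` sections below. -/
theorem mem_genBy_of_stalkFree {F : X.Modules} (hF : Coh.IsQCoh F) (hft : CohB1.IsFT F) {X' : Scheme.{u}}
    (a : X' ⟶ X) (z : X') {p : ℕ} (h : StalkFree p ((Scheme.Modules.pullback a).obj F) z) :
    a z ∈ genBy F p := by
  obtain ⟨_, ⟨V, hV, rfl⟩, hx, -⟩ :=
    X.isBasis_affineOpens.exists_subset_of_mem_open (Set.mem_univ (a z)) isOpen_univ
  have hV' : IsAffineOpen V := hV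
  haveI := finite_of_isFT hF hft hV'
  refine mem_genBy_of_not_le hF hV' hx ?_
  letI := stalkAlg (X := X) hx
  letI := stalkModule F hx
  haveI := isScalarTower_stalk F hx
  haveI := isLocalization_stalk' hV' hx
  haveI := isLocalizedModule_germLin hF hV' hx
  let A := X.presheaf.stalk (a z)
  let B := X'.presheaf.stalk z
  letI : Algebra A B := (a.stalkMap z).hom.toAlgebra
  letI : Algebra Γ(X, V) B := ((a.stalkMap z).hom.comp (algebraMap Γ(X, V) A)).toAlgebra
  haveI : IsScalarTower Γ(X, V) A B := IsScalarTower.of_algebraMap_eq fun _ => rfl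
  haveI : IsLocalHom (algebraMap A B) := inferInstanceAs (IsLocalHom (a.stalkMap z).hom)
  let l : ((Scheme.Modules.pullback a).obj F).presheaf.stalk z ≃ₗ[B] B ⊗[A] F.presheaf.stalk (a z) :=
    ((KFlatLib.stalkPullbackIso a z).app F).toLinearEquiv
  haveI := h.1
  haveI : Module.Free B (B ⊗[A] F.presheaf.stalk (a z)) := Module.Free.of_equiv l
  haveI : Module.Finite A (F.presheaf.stalk (a z)) := finite_stalk_of_isFT hF hft (a z)
  let b := (Module.finBasis B (B ⊗[A] F.presheaf.stalk (a z))).reindex (finCongr (l.finrank_eq.symm.trans h.2))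
  have hbc := (IsLocalizedModule.isBaseChange (hV'.primeIdealOf ⟨a z, hx⟩).asIdeal.primeCompl A (germLin F hx)).comp
    (TensorProduct.isBaseChange A (F.presheaf.stalk (a z)) B)
  refine FittX.not_le_of_span_eq_top hbc b.span_eq ?_
  intro htop
  have h1 : (hV'.primeIdealOf ⟨a z, hx⟩).asIdeal.map (algebraMap Γ(X, V) B) ≤ IsLocalRing.maximalIdeal B := by
    rw [IsScalarTower.algebraMap_eq Γ(X, V) A B, ← Ideal.map_map,
      IsLocalization.AtPrime.map_eq_maximalIdeal (hV'.primeIdealOf ⟨a z, hx⟩).asIdeal A]
    exact ((IsLocalRing.local_hom_TFAE (algebraMap A B)).out 0 2).1 (inferInstance : IsLocalHom (algebraMap A B))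
  exact (IsLocalRing.maximalIdeal.isMaximal B).ne_top (top_le_iff.1 (htop.ge.trans h1))

/-- A stalk of a pullback is free on the pulled back generators exactly when all relations vanish. -/
theorem stalkFree_iff_relations {F : X.Modules} (hF : Coh.IsQCoh F) {V : X.Opens} (hV : IsAffineOpen V) {p : ℕ}
    {g : Fin p → Γ(F, V)} (hg : Submodule.span Γ(X, V) (Set.range g) = ⊤) {X' : Scheme.{u}} (a : X' ⟶ X)
    (z : X') (hz : a z ∈ V) :
    StalkFree p ((Scheme.Modules.pullback a).obj F) z ↔ ∀ c : Fin p → Γ(X, V), ∑ i, c i • g i = 0 →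
      ∀ i, a.stalkMap z (X.presheaf.germ V (a z) hz (c i)) = 0 := by
  classical
  letI := stalkAlg (X := X) hz
  letI := stalkModule F hz
  haveI := isScalarTower_stalk F hz
  haveI := isLocalization_stalk' hV hz
  haveI := isLocalizedModule_germLin hF hV hz
  let P := (hV.primeIdealOf ⟨a z, hz⟩).asIdeal.primeCompl
  let A := X.presheaf.stalk (a z)
  let B := X'.presheaf.stalk z
  letI : Algebra A B := (a.stalkMap z).hom.toAlgebra
  let M := F.presheaf.stalk (a z)
  let l : ((Scheme.Modules.pullback a).obj F).presheaf.stalk z ≃ₗ[B] B ⊗[A] M :=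
    ((KFlatLib.stalkPullbackIso a z).app F).toLinearEquiv
  let φ : (Fin p → A) →ₗ[A] M := Fintype.linearCombination A fun i => germLin F hz (g i)
  have hφ : Function.Surjective φ := LinearMap.range_eq_top.1 (by
    rw [Fintype.range_linearCombination]; exact span_germ hF hV hg hz)
  let ψ : (Fin p → B) →ₗ[B] B ⊗[A] M := Fintype.linearCombination B fun i => (1 : B) ⊗ₜ[A] germLin F hz (g i)
  have hψ : Function.Surjective ψ := LinearMap.range_eq_top.1 (by
    rw [Fintype.range_linearCombination, Set.range_comp' (fun m : M => (1 : B) ⊗ₜ[A] m) fun i => germLin F hz (g i)]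
    have := Submodule.baseChange_span (R := A) (A := B) (M := M) (Set.range fun i => germLin F hz (g i))
    rw [show Submodule.span A (Set.range fun i => germLin F hz (g i)) = ⊤ from span_germ hF hV hg hz,
      Submodule.baseChange_top] at this
    exact this.symm)
  have hψφ : ∀ v, ψ (fun i => algebraMap A B (v i)) = (1 : B) ⊗ₜ[A] φ v := fun v => by
    simp only [ψ, φ, Fintype.linearCombination_apply, TensorProduct.tmul_sum, TensorProduct.tmul_smul, algebraMap_smul]
  constructor
  · intro h c hc
    haveI := h.1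
    haveI : Module.Free B (B ⊗[A] M) := Module.Free.of_equiv l
    haveI : Module.Finite B (B ⊗[A] M) := Module.Finite.of_surjective ψ hψ
    let e := ((Module.finBasis B (B ⊗[A] M)).reindex (finCongr (l.finrank_eq.symm.trans h.2))).equivFun
    have hinj : Function.Injective (e.toLinearMap ∘ₗ ψ) :=
      OrzechProperty.injective_of_surjective_endomorphism _ (e.surjective.comp hψ)
    have h0 : φ (fun i => algebraMap Γ(X, V) A (c i)) = 0 := by
      simp only [φ, Fintype.linearCombination_apply, algebraMap_smul]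
      have h2 := congrArg (germLin F hz) hc
      rw [map_zero, map_sum] at h2
      simpa only [map_smul] using h2
    have h1 := hinj (congrArg e ((hψφ _).trans (by rw [h0, TensorProduct.tmul_zero, map_zero] :
      (1 : B) ⊗ₜ[A] φ (fun i => algebraMap Γ(X, V) A (c i)) = ψ 0)))
    exact fun i => congrFun h1 i
  · intro h
    have hker : LinearMap.ker φ ≤ LinearMap.ker ((Algebra.linearMap A B).compLeft (Fin p)) := by
      intro v hv
      obtain ⟨u, hu⟩ := IsLocalization.exist_integer_multiples_of_finite P v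
      choose c hc using fun i => hu i
      have h1 : germLin F hz (∑ i, c i • g i) = 0 := by
        rw [map_sum]
        simp only [map_smul]
        have h2 : (algebraMap Γ(X, V) A (u : Γ(X, V))) • φ v = 0 := by rw [LinearMap.mem_ker.1 hv, smul_zero]
        rw [← h2]
        simp only [φ, Fintype.linearCombination_apply, Finset.smul_sum, smul_smul]
        refine Finset.sum_congr rfl fun i _ => ?_
        rw [← algebraMap_smul A (c i)]
        congr 1
        exact (hc i).trans (Algebra.smul_def _ _)
      obtain ⟨w, hw⟩ := (IsLocalizedModule.eq_zero_iff P (germLin F hz)).1 h1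
      rw [Submonoid.smul_def, Finset.smul_sum] at hw
      simp only [smul_smul] at hw
      refine funext fun i => ?_
      have h3 : algebraMap A B (algebraMap Γ(X, V) A ((w : Γ(X, V)) * c i)) = 0 := h _ hw i
      rw [map_mul, map_mul, show algebraMap Γ(X, V) A (c i) = algebraMap Γ(X, V) A (u : Γ(X, V)) * v i from
        (hc i).trans (Algebra.smul_def _ _), map_mul] at h3
      have hw' : IsUnit (algebraMap A B (algebraMap Γ(X, V) A (w : Γ(X, V)))) := (IsLocalization.map_units A w).map _
      have hu' : IsUnit (algebraMap A B (algebraMap Γ(X, V) A (u : Γ(X, V)))) := (IsLocalization.map_units A u).map _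
      exact hu'.mul_right_eq_zero.1 (hw'.mul_right_eq_zero.1 h3)
    let χ : M →ₗ[A] (Fin p → B) :=
      ((LinearMap.ker φ).liftQ ((Algebra.linearMap A B).compLeft (Fin p)) hker) ∘ₗ
        (φ.quotKerEquivOfSurjective hφ).symm.toLinearMap
    have hχ : ∀ v, χ (φ v) = fun i => algebraMap A B (v i) := fun v => by
      show (LinearMap.ker φ).liftQ _ hker ((φ.quotKerEquivOfSurjective hφ).symm (φ v)) = _
      rw [show (φ.quotKerEquivOfSurjective hφ).symm (φ v) = Submodule.Quotient.mk v from
        (φ.quotKerEquivOfSurjective hφ).injective (by rw [LinearEquiv.apply_symm_apply]; rfl)]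
      rfl
    let χB : B ⊗[A] M →ₗ[B] (Fin p → B) := LinearMap.liftBaseChange B χ
    have hleft : χB ∘ₗ ψ = LinearMap.id := by
      refine LinearMap.pi_ext' fun i => LinearMap.ext_ring ?_
      have e1 : φ (Pi.single i 1) = germLin F hz (g i) := by
        simp [φ, Fintype.linearCombination_apply, Pi.single_apply]
      simp only [LinearMap.comp_apply, LinearMap.coe_single, LinearMap.id_apply]
      rw [show ψ (Pi.single i (1 : B)) = (1 : B) ⊗ₜ[A] germLin F hz (g i) by
        simp [ψ, Fintype.linearCombination_apply, Pi.single_apply], LinearMap.liftBaseChange_tmul, one_smul, ← e1, hχ]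
      funext j
      by_cases hj : j = i
      · subst hj; simp
      · simp [hj]
    let e : (Fin p → B) ≃ₗ[B] B ⊗[A] M := LinearEquiv.ofBijective ψ
      ⟨Function.LeftInverse.injective (g := χB) fun v => LinearMap.congr_fun hleft v, hψ⟩
    refine ⟨Module.Free.of_equiv (e.trans l.symm), ?_⟩
    rw [← (e.trans l.symm).finrank_eq]
    exact Module.finrank_fin_fun B

end Groth.Agent.H4BC.GenPts
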