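import Groth.Agent.H4BC.GenPtsLim
import Groth.Agent.S1393
import Groth.Agent.S2768
import Groth.Agent.FibDim.Basic
import Groth.Agent.AssFiber.Basic
import Mathlib

/-! Flatness in dimensions `≥ d` for smooth morphisms of relative dimension `d`. -/

set_option autoImplicit false
set_option linter.style.haveILetI false
set_option backward.isDefEq.respectTransparency false
set_option backward.isDefEq.respectTransparency.types false

universe u

open CategoryTheory CategoryTheory.Limits AlgebraicGeometry Opposite TopologicalSpace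
open scoped TensorProduct

namespace Groth.Agent.H4BC.GenPts

open Groth.Agent Groth.Agent.QCoh
attribute [local instance] Algebra.TensorProduct.rightAlgebra

/-- In a smooth algebra the prime at the generic point of a fibre is generated by the base up to units. -/
theorem exists_mul_mem_map (A B : Type u) [CommRing A] [CommRing B] [Algebra A B] [Algebra.Smooth A B]
    (η : Ideal B) [η.IsPrime] (p : Ideal A) [p.IsPrime] (hη : η.comap (algebraMap A B) = p)
    (hgen : ∀ q' : Ideal B, q'.IsPrime → q'.comap (algebraMap A B) = p → η ≤ q') {a : B} (ha : a ∈ η) :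
    ∃ s ∉ η, s * a ∈ p.map (algebraMap A B) := by
  haveI : _root_.IsReduced (p.ResidueField ⊗[A] B) := QRepLib.isReduced_of_smooth_algebra p.ResidueField _
  let e := PrimeSpectrum.primesOverOrderIsoFiber A B p
  let ι := Algebra.TensorProduct.includeRight (R := A) (A := p.ResidueField) (B := B)
  have h0 : ι a = 0 := IsReduced.eq_zero (ι a) (nilpotent_iff_mem_prime.2 fun J hJ => by
    let Q := e.symm ⟨J, hJ⟩
    have h := hgen _ Q.2.1 Q.2.2.over.symm ha
    have he : (e Q).asIdeal.comap ι = Q.1 := congrArg Subtype.val (e.symm_apply_apply Q)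
    have : ι a ∈ (e Q).asIdeal := he.ge h
    rwa [e.apply_symm_apply] at this)
  have h1 : FlatCA.toFiberMod p (S := B) B a = 0 := by
    show ((1 : p.Fiber B) ⊗ₜ[B] a : (p.Fiber B) ⊗[B] B) = 0
    rw [show a = a • (1 : B) from (mul_one a).symm, ← TensorProduct.smul_tmul, Algebra.smul_def, mul_one,
      show algebraMap B (p.Fiber B) a = ι a from rfl, h0, TensorProduct.zero_tmul]
  obtain ⟨r, hr, hra⟩ := AssFiber.exists_smul_mem_of_toFiberMod_eq_zero p B h1
  refine ⟨algebraMap A B r, fun h => hr (hη ▸ Ideal.mem_comap.2 h), ?_⟩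
  simpa [AssFiber.pN, Ideal.smul_top_eq_map] using hra

variable {X T : Scheme.{u}}

/-- The maximal ideal at the generic point of a fibre of a smooth morphism comes from the base. -/
theorem map_maximalIdeal_of_generic (q : X ⟶ T) [Smooth q] {x : X} (hgen : FlatFun.IsGenericPtOfFibre q x) :
    Ideal.map (q.stalkMap x).hom (IsLocalRing.maximalIdeal (T.presheaf.stalk (q x))) =
      IsLocalRing.maximalIdeal (X.presheaf.stalk x) := by
  refine le_antisymm (((IsLocalRing.local_hom_TFAE (q.stalkMap x).hom).out 0 2).1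
    (inferInstance : IsLocalHom (q.stalkMap x).hom)) fun f hf => ?_
  obtain ⟨_, ⟨W, hW, rfl⟩, htW, -⟩ :=
    T.isBasis_affineOpens.exists_subset_of_mem_open (Set.mem_univ (q x)) isOpen_univ
  obtain ⟨_, ⟨V, hV, rfl⟩, hx, hVW⟩ :=
    X.isBasis_affineOpens.exists_subset_of_mem_open (show x ∈ q ⁻¹ᵁ W from htW) (q ⁻¹ᵁ W).2
  have hV' : IsAffineOpen V := hV
  have hW' : IsAffineOpen W := hW
  algebraize [(q.appLE W V hVW).hom]
  haveI : Algebra.Smooth Γ(T, W) Γ(X, V) := HasRingHomProperty.appLE @Smooth q inferInstance ⟨W, hW⟩ ⟨V, hV⟩ hVW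
  have hpre : ∀ z (hz : z ∈ V), (hV'.primeIdealOf ⟨z, hz⟩).asIdeal.comap (algebraMap Γ(T, W) Γ(X, V)) =
      (hW'.primeIdealOf ⟨q z, hVW hz⟩).asIdeal := fun z hz => by
    rw [RingHom.algebraMap_toAlgebra]
    exact congrArg PrimeSpectrum.asIdeal (IsAffineOpen.comap_primeIdealOf_appLE (f := q) W hW' V hV' hVW hz)
  letI := stalkAlg (X := X) hx
  haveI := isLocalization_stalk' hV' hx
  obtain ⟨a, u, rfl⟩ := IsLocalization.exists_mk'_eq (hV'.primeIdealOf ⟨x, hx⟩).asIdeal.primeCompl f
  have ha : a ∈ (hV'.primeIdealOf ⟨x, hx⟩).asIdeal :=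
    (IsLocalization.AtPrime.mk'_mem_maximal_iff _ _ a u).1 hf
  obtain ⟨s, hs, hsa⟩ := exists_mul_mem_map Γ(T, W) Γ(X, V) (hV'.primeIdealOf ⟨x, hx⟩).asIdeal
    (hW'.primeIdealOf ⟨q x, hVW hx⟩).asIdeal (hpre x hx) (fun q' hq' hcomap => by
      obtain ⟨z, hz, hze⟩ := exists_point hV' ⟨q', hq'⟩
      have hzq : q z = q x := by
        have h2 := hpre z hz
        rw [hze, hcomap] at h2
        exact (hW'.fromSpec_primeIdealOf ⟨q z, hVW hz⟩).symm.trans
          ((congrArg (fun P => hW'.fromSpec P) (PrimeSpectrum.ext h2.symm)).trans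
            (hW'.fromSpec_primeIdealOf ⟨q x, hVW hx⟩))
      intro b hb
      by_contra hbq
      have hzD : z ∈ X.basicOpen b := (mem_basicOpen_iff_notMem hV' hz b).2 (by rwa [hze])
      exact (mem_basicOpen_iff_notMem hV' hx b).1 ((hgen z hzq).mem_open (X.basicOpen b).2 hzD) hb) ha
  rw [IsLocalization.mk'_eq_mul_mk'_one]
  refine Ideal.mul_mem_right _ _ ?_
  have hmap : (Ideal.map (algebraMap Γ(T, W) Γ(X, V)) (hW'.primeIdealOf ⟨q x, hVW hx⟩).asIdeal).map
      (algebraMap Γ(X, V) (X.presheaf.stalk x)) ≤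
      Ideal.map (q.stalkMap x).hom (IsLocalRing.maximalIdeal (T.presheaf.stalk (q x))) := by
    rw [Ideal.map_map, Ideal.map_le_iff_le_comap]
    intro r hr
    letI := stalkAlg (X := T) (hVW hx)
    haveI := isLocalization_stalk' hW' (hVW hx)
    have h2 : algebraMap Γ(T, W) (T.presheaf.stalk (q x)) r ∈ IsLocalRing.maximalIdeal (T.presheaf.stalk (q x)) :=
      (IsLocalization.AtPrime.to_map_mem_maximal_iff _ _ r).2 hr
    have h3 := Ideal.mem_map_of_mem (q.stalkMap x).hom h2
    rw [Ideal.mem_comap, RingHom.comp_apply]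
    change X.presheaf.germ V x hx (q.appLE W V hVW r) ∈
      Ideal.map (q.stalkMap x).hom (IsLocalRing.maximalIdeal (T.presheaf.stalk (q x)))
    convert h3 using 1
    show _ = q.stalkMap x (T.presheaf.germ W (q x) (hVW hx) r)
    rw [Scheme.Hom.germ_stalkMap_apply, Scheme.Hom.appLE, ← X.presheaf.germ_res_apply (homOfLE hVW) x hx]
    rfl
  have h4 := hmap (Ideal.mem_map_of_mem _ hsa)
  rw [map_mul] at h4
  exact (Ideal.unit_mul_mem_iff_mem _ (IsLocalization.map_units _ (⟨s, hs⟩ :
    (hV'.primeIdealOf ⟨x, hx⟩).asIdeal.primeCompl))).1 h4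

theorem rd_generic {d : ℕ} (q : X ⟶ T) [SmoothOfRelativeDimension d q] [Smooth q] {x : X}
    (hgen : FlatFun.IsGenericPtOfFibre q x) : FibDim.rd q x = d := by
  have h := S2768.result d q x
  rw [FibDim.fibreDimAt_eq_rd q fun z hz hqz => (hz.antisymm (hgen z hqz)).eq] at h
  exact_mod_cast h

theorem rd_lt_of_not_generic {d : ℕ} (q : X ⟶ T) [SmoothOfRelativeDimension d q] [Smooth q]
    [GeometricallyIrreducible q] {x : X} (hx : ¬ FlatFun.IsGenericPtOfFibre q x) : FibDim.rd q x < d := by
  obtain ⟨η, hη, hgen⟩ := exists_isGenericPtOfFibre q (q x)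
  rw [← rd_generic (d := d) q hgen]
  exact FibDim.rd_lt q (hgen x hη.symm) (fun e => hx (e ▸ hgen)) hη

/-- A free stalk is flat over the base along a flat morphism. -/
theorem isFlatOverAt_of_stalkFree (q : X ⟶ T) [Flat q] {F : X.Modules} {x : X} {p : ℕ}
    (h : StalkFree p F x) : FlatMod.IsFlatOverAt q F x := by
  letI := (q.stalkMap x).hom.toAlgebra
  letI := FlatMod.moduleStalkOver q F x
  haveI : IsScalarTower (T.presheaf.stalk (q x)) (X.presheaf.stalk x) (F.presheaf.stalk x) :=
    IsScalarTower.of_algebraMap_smul fun _ _ => rfl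
  haveI : Module.Flat (T.presheaf.stalk (q x)) (X.presheaf.stalk x) := Flat.stalkMap q x
  haveI := h.1
  exact Module.Flat.trans (T.presheaf.stalk (q x)) (X.presheaf.stalk x) (F.presheaf.stalk x)

/-- Flatness at the generic point of a fibre gives freeness near it. -/
theorem exists_near_of_flat_generic (q : X ⟶ T) [Smooth q] [QuasiCompact q] [QuasiSeparated q] {F : X.Modules}
    (hF : CohB1.IsFP F) {x : X} (hgen : FlatFun.IsGenericPtOfFibre q x) (h : FlatMod.IsFlatOverAt q F x) :
    ∃ p, FlatFun.IsFreeOfRankNear F p x := by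
  haveI : (Ideal.map (q.stalkMap x).hom (IsLocalRing.maximalIdeal (T.presheaf.stalk (q x)))).IsMaximal := by
    rw [map_maximalIdeal_of_generic q hgen]; infer_instance
  letI := Ideal.Quotient.field (Ideal.map (q.stalkMap x).hom (IsLocalRing.maximalIdeal (T.presheaf.stalk (q x))))
  obtain ⟨U, p, hx, he⟩ := S1393.result q F (isQCoh_of_isFP hF) hF x h Module.Flat.of_free
  exact ⟨p, U, hx, he⟩

/-- The rank of the stalks of the pullbacks of a module of finite type on an affine scheme is bounded. -/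
theorem exists_rank_bound [IsAffine X] {F : X.Modules} (hF : Coh.IsQCoh F) (hft : CohB1.IsFT F) :
    ∃ c : ℕ, ∀ {X' : Scheme.{u}} (a : X' ⟶ X) (x : X') (p : ℕ),
      StalkFree p ((Scheme.Modules.pullback a).obj F) x → p ≤ c := by
  haveI := finite_of_isFT hF hft (isAffineOpen_top X)
  obtain ⟨c, g, hg⟩ := Module.Finite.exists_fin (R := Γ(X, ⊤)) (M := Γ(F, ⊤))
  refine ⟨c, fun {X'} a x p h => ?_⟩
  let A := X.presheaf.stalk (a x)
  let B := X'.presheaf.stalk x
  letI : Algebra A B := (a.stalkMap x).hom.toAlgebra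
  let l : ((Scheme.Modules.pullback a).obj F).presheaf.stalk x ≃ₗ[B] B ⊗[A] F.presheaf.stalk (a x) :=
    ((KFlatLib.stalkPullbackIso a x).app F).toLinearEquiv
  have hxV : a x ∈ (⊤ : X.Opens) := trivial
  letI := stalkAlg (X := X) hxV
  letI := stalkModule F hxV
  haveI := isScalarTower_stalk F hxV
  haveI := isLocalization_stalk' (isAffineOpen_top X) hxV
  haveI := isLocalizedModule_germLin hF (isAffineOpen_top X) hxV
  have h1 : Submodule.span A (Set.range fun i => germLin F hxV (g i)) = ⊤ := by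
    rw [Set.range_comp' (germLin F hxV) g,
      ← Submodule.localized'_span A ((isAffineOpen_top X).primeIdealOf ⟨a x, hxV⟩).asIdeal.primeCompl (germLin F hxV),
      hg, Submodule.localized'_top]
  have h2 : Submodule.span B (Set.range fun i => (1 : B) ⊗ₜ[A] germLin F hxV (g i)) = ⊤ := by
    rw [Set.range_comp' (fun m : F.presheaf.stalk (a x) => (1 : B) ⊗ₜ[A] m) (fun i => germLin F hxV (g i))]
    have := Submodule.baseChange_span (R := A) (A := B) (M := F.presheaf.stalk (a x)) (Set.range fun i => germLin F hxV (g i))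
    rw [h1, Submodule.baseChange_top] at this
    exact this.symm
  have h3 := finrank_range_le_card (R := B) (fun i => (1 : B) ⊗ₜ[A] germLin F hxV (g i))
  rw [Set.finrank, h2, finrank_top, Fintype.card_fin, ← l.finrank_eq, h.2] at h3
  exact h3

variable {S : Scheme.{u}}

/-- For affine smooth `X → S` with irreducible fibres of dimension `d`, flatness in dimensions `≥ d`
is local freeness near the generic points of the fibres. -/
theorem flatDim_iff [IsAffine X] [IsAffine S] (f : X ⟶ S) (d : ℕ) [SmoothOfRelativeDimension d f]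
    [GeometricallyIrreducible f] (F : X.Modules) (hF : CohB1.IsFP F) :
    ∃ c : ℕ, ∀ Y : Over S,
      (FlatFun.DimFibresLT d (PicF.XTproj f Y)
        {x | ¬ FlatMod.IsFlatOverAt (PicF.XTproj f Y) (FGA.ET f F Y) x}) ↔
      ∀ t : Y.left, ∃ (V : Y.left.Opens) (p : ℕ), t ∈ V ∧ p ≤ c ∧
        FlatFun.FreeAtGenericPts (PicF.XTproj f (Over.mk (V.ι ≫ Y.hom)))
          (FGA.ET f F (Over.mk (V.ι ≫ Y.hom))) p := by
  obtain ⟨c, hc⟩ := exists_rank_bound (isQCoh_of_isFP hF) (isFT_of_isFP hF)
  refine ⟨c, fun Y => ?_⟩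
  haveI := AlgebraicGeometry.smoothOfRelativeDimension_isStableUnderBaseChange.{u} d
  haveI hsd : ∀ Z : Over S, SmoothOfRelativeDimension d (PicF.XTproj f Z) := fun Z =>
    MorphismProperty.pullback_snd (P := @SmoothOfRelativeDimension d) _ _ ‹_›
  haveI : Smooth f := SmoothOfRelativeDimension.smooth d f
  haveI hsm : ∀ Z : Over S, Smooth (PicF.XTproj f Z) := fun Z => MorphismProperty.pullback_snd _ _ inferInstance
  haveI : GeometricallyIrreducible (PicF.XTproj f Y) := MorphismProperty.pullback_snd _ _ inferInstance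
  haveI : IsAffineHom f := isAffineHom_of_isAffine f
  haveI : IsAffineHom (PicF.XTproj f Y) := MorphismProperty.pullback_snd _ _ inferInstance
  have hfp : ∀ Z : Over S, CohB1.IsFP (FGA.ET f F Z) := fun Z => ModStLib.isFP_pullback _ hF
  rw [FibFlatMod.dimFibresLT_iff]
  refine ⟨fun h t => ?_, fun h z hz => ?_⟩
  · obtain ⟨x, hx, hgen⟩ := exists_isGenericPtOfFibre (PicF.XTproj f Y) t
    have hflat : FlatMod.IsFlatOverAt (PicF.XTproj f Y) (FGA.ET f F Y) x := by
      by_contra hn
      exact (lt_irrefl d) ((rd_generic (d := d) _ hgen) ▸ h x hn)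
    obtain ⟨p, hp⟩ := exists_near_of_flat_generic _ (hfp Y) hgen hflat
    refine ⟨⟨_, (PicF.XTproj f Y).isOpenMap _ (isOpen_near (FGA.ET f F Y) p)⟩, p, ⟨x, hp, hx⟩,
      hc (pullback.fst f Y.hom) x p (stalkFree_of_near (isQCoh_of_isFP (hfp Y)) hp), ?_⟩
    exact freeAtGenericPts_of_freeImage f F p _ fun s => mem_freeImage_bc f F hF p
      (Over.homMk (Scheme.Opens.ι _) : Over.mk (Scheme.Opens.ι _ ≫ Y.hom) ⟶ Y) s.2
  · refine rd_lt_of_not_generic (d := d) _ fun hgen => hz ?_
    obtain ⟨V, p, hV, -, hfree⟩ := h (PicF.XTproj f Y z)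
    let k : Over.mk (V.ι ≫ Y.hom) ⟶ Y := Over.homMk V.ι
    obtain ⟨x', hx', hgen', hnear⟩ := hfree ⟨_, hV⟩
    let a := pullback.map f (Over.mk (V.ι ≫ Y.hom)).hom f Y.hom (𝟙 X) k.left (𝟙 S) (by simp) (by simp)
    haveI : Flat a := MorphismProperty.of_isPullback (P := @Flat) (FlatDimSheaf.sq f k).flip
      (inferInstanceAs (Flat V.ι))
    have hq : PicF.XTproj f Y (a x') = PicF.XTproj f Y z := by
      show (a ≫ pullback.snd f Y.hom) x' = _
      rw [(FlatDimSheaf.sq f k).w]
      exact congrArg k.left hx'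
    obtain rfl : a x' = z :=
      ((isGenericPtOfFibre_map (FlatDimSheaf.sq f k) hgen' z hq.symm).antisymm (hgen _ hq)).eq
    exact isFlatOverAt_of_stalkFree _ (stalkFree_descent a (isQCoh_of_isFP (hfp Y)) (isFT_of_isFP (hfp Y)) x'
      ((stalkFree_of_near (isQCoh_of_isFP (hfp _)) hnear).of_iso (trET f F k)))

end Groth.Agent.H4BC.GenPts
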