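import Groth.Agent.H4BC.GenPtsCuts
import Mathlib

/-! The functor `H_p` is representable by an immersion. -/

set_option autoImplicit false
set_option linter.style.haveILetI false
set_option backward.isDefEq.respectTransparency false
set_option backward.isDefEq.respectTransparency.types false

universe u

open CategoryTheory CategoryTheory.Limits AlgebraicGeometry Opposite TopologicalSpace
open scoped TensorProduct

namespace Groth.Agent.H4BC.GenPts

open Groth.Agent Groth.Agent.QCoh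

variable {X S : Scheme.{u}} (f : X ⟶ S) (F : X.Modules) (p : ℕ)

/-- The condition of `H_p` on a morphism to `S`. -/
def HCond {T : Scheme.{u}} (x : T ⟶ S) : Prop :=
  FlatFun.FreeAtGenericPts (PicF.XTproj f (Over.mk x)) (FGA.ET f F (Over.mk x)) p

/-- The base change map between base changes. -/
noncomputable def bcMap {Y Y' : Over S} (k : Y' ⟶ Y) : PicF.XT f Y' ⟶ PicF.XT f Y :=
  pullback.map f Y'.hom f Y.hom (𝟙 X) k.left (𝟙 S) (by simp) (by simp)

noncomputable def bcIso {Y Y' : Over S} (k : Y' ⟶ Y) :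
    (Scheme.Modules.pullback (bcMap f k)).obj (FGA.ET f F Y) ≅ FGA.ET f F Y' :=
  (Scheme.Modules.pullbackComp _ (pullback.fst f Y.hom)).app F ≪≫
    (Scheme.Modules.pullbackCongr ((pullback.lift_fst _ _ _).trans (Category.comp_id _))).app F

section smooth

variable [Smooth f] [GeometricallyIrreducible f] (hF : Coh.IsQCoh F) (hft : CohB1.IsFT F)

include hF hft

theorem hcond_iff {T : Scheme.{u}} (x : T ⟶ S) : HCond f F p x ↔
    ∀ t : T, ∃ w : ↥(PicF.XT f (Over.mk x)), PicF.XTproj f (Over.mk x) w = t ∧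
      FlatFun.IsGenericPtOfFibre (PicF.XTproj f (Over.mk x)) w ∧ StalkFree p (FGA.ET f F (Over.mk x)) w :=
  haveI : Smooth (PicF.XTproj f (Over.mk x)) := MorphismProperty.pullback_snd _ _ inferInstance
  freeAtGenericPts_iff _ (isQCoh_pullback _ hF) (FittX.isFT_pullback _ hF hft) p

theorem hcond_bc {Y Y' : Over S} (k : Y' ⟶ Y)
    (h : FlatFun.FreeAtGenericPts (PicF.XTproj f Y) (FGA.ET f F Y) p) :
    FlatFun.FreeAtGenericPts (PicF.XTproj f Y') (FGA.ET f F Y') p := by
  haveI : Smooth (PicF.XTproj f Y) := MorphismProperty.pullback_snd _ _ inferInstance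
  haveI : Smooth (PicF.XTproj f Y') := MorphismProperty.pullback_snd _ _ inferInstance
  haveI : GeometricallyIrreducible (PicF.XTproj f Y') := MorphismProperty.pullback_snd _ _ inferInstance
  refine (freeAtGenericPts_iff _ (isQCoh_pullback _ hF) (FittX.isFT_pullback _ hF hft) p).2 fun t' => ?_
  obtain ⟨x', hx't, hx'⟩ := exists_isGenericPtOfFibre (PicF.XTproj f Y') t'
  obtain ⟨x, hxt, hgen, hsf⟩ := (freeAtGenericPts_iff _ (isQCoh_pullback _ hF)
    (FittX.isFT_pullback _ hF hft) p).1 h (PicF.XTproj f Y (bcMap f k x'))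
  have he := isGenericPtOfFibre_map (FlatDimSheaf.sq f k) hx'
  have : x = bcMap f k x' := ((hgen _ hxt.symm).antisymm (he x hxt)).eq
  exact ⟨x', hx't, hx', (stalkFree_pullback _ _ x' (this ▸ hsf)).of_iso (bcIso f F k)⟩

theorem hcond_comp {T T' : Scheme.{u}} (a : T' ⟶ T) (x : T ⟶ S) (h : HCond f F p x) : HCond f F p (a ≫ x) :=
  hcond_bc f F p hF hft (Over.homMk a : Over.mk (a ≫ x) ⟶ Over.mk x) h

theorem hcond_loc {T : Scheme.{u}} (x : T ⟶ S) (𝒱 : Scheme.OpenCover.{u} T)
    (h : ∀ i, HCond f F p (𝒱.f i ≫ x)) : HCond f F p x := by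
  refine (hcond_iff f F p hF hft x).2 fun t => ?_
  obtain ⟨i, t', rfl⟩ := 𝒱.exists_eq t
  let k : Over.mk (𝒱.f i ≫ x) ⟶ Over.mk x := Over.homMk (𝒱.f i)
  obtain ⟨w, hw, hgen, hsf⟩ := (hcond_iff f F p hF hft (𝒱.f i ≫ x)).1 (h i) t'
  haveI : Flat (bcMap f k) :=
    MorphismProperty.of_isPullback (P := @Flat) (FlatDimSheaf.sq f k).flip (inferInstanceAs (Flat (𝒱.f i)))
  refine ⟨bcMap f k w, ?_, isGenericPtOfFibre_map (FlatDimSheaf.sq f k) hgen,
    stalkFree_descent _ (isQCoh_pullback _ hF) (FittX.isFT_pullback _ hF hft) w (hsf.of_iso (bcIso f F k).symm)⟩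
  show (bcMap f k ≫ pullback.snd f (Over.mk x).hom) w = 𝒱.f i t'
  rw [← hw]
  exact congrArg (fun m : PicF.XT f (Over.mk (𝒱.f i ≫ x)) ⟶ T => m w) (FlatDimSheaf.sq f k).w

/-- The image of the generated locus contains the image of every test morphism. -/
theorem range_subset {T : Scheme.{u}} (x : T ⟶ S) (h : HCond f F p x) (t : T) : x t ∈ f '' genBy F p := by
  obtain ⟨w, hw, -, hsf⟩ := (hcond_iff f F p hF hft x).1 h t
  refine ⟨pullback.fst f x w, mem_genBy_of_stalkFree hF hft _ w hsf, ?_⟩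
  rw [← Scheme.Hom.comp_apply, pullback.condition, Scheme.Hom.comp_apply]
  exact congrArg x hw

end smooth

theorem span_basicOpen (hF : Coh.IsQCoh F) {D : X.Opens} (hD : IsAffineOpen D) (a : Γ(X, D)) {g : Fin p → Γ(F, D)}
    (hg : Submodule.span Γ(X, D) (Set.range g) = ⊤) :
    ∃ g' : Fin p → Γ(F, X.basicOpen a), Submodule.span Γ(X, X.basicOpen a) (Set.range g') = ⊤ := by
  letI := basicModule a F
  haveI : IsScalarTower Γ(X, D) Γ(X, X.basicOpen a) Γ(F, X.basicOpen a) :=
    IsScalarTower.of_algebraMap_smul fun _ _ => rfl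
  haveI := hD.isLocalization_basicOpen a
  exact ⟨_, FittX.span_eq_top_of_smul_mem (FittX.isBaseChange_basicRes hF hD a)
    (IsLocalization.Away.algebraMap_isUnit a) fun y => hg ▸ Submodule.mem_top⟩

/-- A standard smooth chart over a point of the generated locus, surjective on an affine open. -/
theorem exists_chart [Smooth f] [GeometricallyIrreducible f] (hF : Coh.IsQCoh F) (x : X) (hx : x ∈ genBy F p) :
    ∃ (W : S.Opens) (V : X.Opens) (_ : IsAffineOpen W) (_ : IsAffineOpen V) (e : V ≤ f ⁻¹ᵁ W)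
      (g : Fin p → Γ(F, V)), f x ∈ W ∧ Submodule.span Γ(X, V) (Set.range g) = ⊤ ∧
      (∀ w ∈ W, ∃ v ∈ V, f v = w) ∧ (f.appLE W V e).hom.IsStandardSmooth := by
  obtain ⟨D, hD, g₀, hxD, hg₀⟩ := hx
  obtain ⟨U₀, hU₀, V₀, hV₀, hxV₀, e₀, hstd⟩ := Smooth.exists_isStandardSmooth f x
  obtain ⟨a, a', haa', hxa⟩ := exists_basicOpen_le_affine_inter hD hV₀ x ⟨hxD, hxV₀⟩
  obtain ⟨g₁, hg₁⟩ := span_basicOpen F p hF hD a hg₀
  generalize hV₁eq : X.basicOpen a = V₁ at g₁ hg₁ hxa haa'
  subst haa'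
  have hV₁ : IsAffineOpen (X.basicOpen a') := hV₀.basicOpen a'
  have e₁ : X.basicOpen a' ≤ f ⁻¹ᵁ U₀ := (X.basicOpen_le a').trans e₀
  have hstd₁ : (f.appLE U₀ (X.basicOpen a') e₁).hom.IsStandardSmooth := by
    rw [← Scheme.Hom.appLE_map f e₀ (homOfLE (X.basicOpen_le a')).op, CommRingCat.hom_comp]
    letI := hV₀.isLocalization_basicOpen a'
    exact RingHom.isStandardSmooth_stableUnderCompositionWithLocalizationAway.right Γ(X, X.basicOpen a') a' _ hstd
  have hfx : f x ∈ f '' (X.basicOpen a' : Set X) := ⟨x, hxa, rfl⟩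
  obtain ⟨b, hbsub, hfxb⟩ := hU₀.exists_basicOpen_le
    (V := ⟨_, f.isOpenMap _ (X.basicOpen a').2⟩) ⟨f x, hfx⟩ (e₁ hxa)
  let c := f.appLE U₀ (X.basicOpen a') e₁ b
  have e : X.basicOpen c ≤ f ⁻¹ᵁ S.basicOpen b := by
    simp only [c, Scheme.Hom.appLE, CommRingCat.comp_apply, Scheme.preimage_basicOpen, Scheme.basicOpen_res]
    exact inf_le_right
  obtain ⟨g, hg⟩ := span_basicOpen F p hF hV₁ c hg₁
  refine ⟨S.basicOpen b, X.basicOpen c, hU₀.basicOpen b, hV₁.basicOpen c, e, g, hfxb, hg, fun w hw => ?_, ?_⟩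
  · obtain ⟨v, hv, rfl⟩ := hbsub hw
    refine ⟨v, ?_, rfl⟩
    simp only [c, Scheme.Hom.appLE, CommRingCat.comp_apply, Scheme.preimage_basicOpen, Scheme.basicOpen_res]
    exact ⟨hv, by rw [← Scheme.preimage_basicOpen]; exact hw⟩
  · rw [show f.appLE (S.basicOpen b) (X.basicOpen c) e = _ from IsAffineOpen.appLE_eq_away_map f hU₀ hV₁ e₁ b]
    letI := hU₀.isLocalization_basicOpen b
    letI := hV₁.isLocalization_basicOpen (f.appLE U₀ (X.basicOpen a') e₁ b)
    exact RingHom.LocalizationPreserves.away RingHom.isStandardSmooth_localizationPreserves _ b _ _ hstd₁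

section cuts

variable [Smooth f] [GeometricallyIrreducible f] (hF : Coh.IsQCoh F) (hft : CohB1.IsFT F)
  {W : S.Opens} (hW : IsAffineOpen W) {V : X.Opens} (hV : IsAffineOpen V) [Algebra Γ(S, W) Γ(X, V)]
  (e : V ≤ f ⁻¹ᵁ W) (he : algebraMap Γ(S, W) Γ(X, V) = (f.appLE W V e).hom)
  (R : Type u) [CommRing R] [Algebra Γ(S, W) R]

/-- The test morphism of an algebra over the chart. -/
noncomputable abbrev testMap : Spec (CommRingCat.of R) ⟶ S :=
  Spec.map (CommRingCat.ofHom (algebraMap Γ(S, W) R)) ≫ hW.fromSpec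

include he in
omit [Smooth f] [GeometricallyIrreducible f] in
theorem chart_comm : hV.fromSpec ≫ f = Spec.map (CommRingCat.ofHom (algebraMap Γ(S, W) Γ(X, V))) ≫ hW.fromSpec := by
  rw [he]
  exact (IsAffineOpen.SpecMap_appLE_fromSpec f hW hV e).symm

/-- The chart of a base change. -/
noncomputable def chartMap : Spec (CommRingCat.of (R ⊗[Γ(S, W)] Γ(X, V))) ⟶ pullback f (testMap hW R) :=
  (pullbackSpecIso Γ(S, W) R Γ(X, V)).inv ≫ (pullbackSymmetry _ _).hom ≫
    pullback.map (Spec.map (CommRingCat.ofHom (algebraMap Γ(S, W) Γ(X, V))))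
      (Spec.map (CommRingCat.ofHom (algebraMap Γ(S, W) R))) f (testMap hW R) hV.fromSpec (𝟙 _) hW.fromSpec
      (chart_comm f hW hV e he).symm (by simp)

instance : IsOpenImmersion (chartMap f hW hV e he R) := by
  unfold chartMap; infer_instance

omit [Smooth f] [GeometricallyIrreducible f] in
theorem chartMap_fst : chartMap f hW hV e he R ≫ pullback.fst f (testMap hW R) =
    Spec.map (CommRingCat.ofHom (Algebra.TensorProduct.includeRight (R := Γ(S, W)) (A := R) (B := Γ(X, V))).toRingHom) ≫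
      hV.fromSpec := by
  simp [chartMap]

omit [Smooth f] [GeometricallyIrreducible f] in
theorem chartMap_snd : chartMap f hW hV e he R ≫ pullback.snd f (testMap hW R) =
    Spec.map (CommRingCat.ofHom (algebraMap R (R ⊗[Γ(S, W)] Γ(X, V)))) := by
  simp [chartMap]
  rfl

include hW hV he in
theorem irreducible_fibre (K : Type u) [Field K] [Algebra Γ(S, W) K] :
    PreirreducibleSpace (PrimeSpectrum (K ⊗[Γ(S, W)] Γ(X, V))) := by
  haveI : IrreducibleSpace ↥(pullback f (testMap hW K)) :=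
    GeometricallyIrreducible.geometrically_irreducibleSpace _ _ _ (IsPullback.of_hasPullback _ _)
  exact ⟨PreirreducibleSpace.isPreirreducible_univ.preimage (chartMap f hW hV e he K).isOpenEmbedding⟩

include hF hft hW hV he in
/-- `H_p` on a test algebra is the vanishing of the relations. -/
theorem hcond_testMap_iff [Algebra.Smooth Γ(S, W) Γ(X, V)] [Module.FaithfullyFlat Γ(S, W) Γ(X, V)] {p : ℕ}
    {g : Fin p → Γ(F, V)} (hg : Submodule.span Γ(X, V) (Set.range g) = ⊤) :
    HCond f F p (testMap hW R) ↔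
      ∀ c : Fin p → Γ(X, V), ∑ i, c i • g i = 0 → ∀ i, (1 : R) ⊗ₜ[Γ(S, W)] c i = 0 := by
  let C := R ⊗[Γ(S, W)] Γ(X, V)
  let a := chartMap f hW hV e he R
  let q := Spec.map (CommRingCat.ofHom (algebraMap R C))
  let b := a ≫ pullback.fst f (testMap hW R)
  let inR := CommRingCat.ofHom (Algebra.TensorProduct.includeRight (R := Γ(S, W)) (A := R) (B := Γ(X, V))).toRingHom
  have hb : b = Spec.map inR ≫ hV.fromSpec := chartMap_fst f hW hV e he R
  haveI : IsAffine (Spec (CommRingCat.of C)) := inferInstance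
  have hbV : ∀ z, b z ∈ V := fun z => by
    rw [hb, Scheme.Hom.comp_apply]
    exact hV.range_fromSpec.le ⟨_, rfl⟩
  have htopV : (⊤ : (Spec (CommRingCat.of C)).Opens) ≤ b ⁻¹ᵁ V := fun z _ => hbV z
  have happ : ∀ c, b.appLE V ⊤ htopV c = (Scheme.ΓSpecIso (CommRingCat.of C)).inv ((1 : R) ⊗ₜ[Γ(S, W)] c) := by
    have h1 : b.appLE V ⊤ htopV = inR ≫ (Scheme.ΓSpecIso (CommRingCat.of C)).inv := by
      apply Spec.map_injective
      rw [← cancel_mono hV.fromSpec, IsAffineOpen.SpecMap_appLE_fromSpec b hV (isAffineOpen_top _) htopV,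
        IsAffineOpen.fromSpec_top, Scheme.isoSpec_Spec_inv, hb, Spec.map_comp, Category.assoc]
    intro c
    rw [h1]
    rfl
  have hgerm : ∀ z c, b.stalkMap z (X.presheaf.germ V (b z) (hbV z) c) =
      (Spec (CommRingCat.of C)).presheaf.germ ⊤ z trivial
        ((Scheme.ΓSpecIso (CommRingCat.of C)).inv ((1 : R) ⊗ₜ[Γ(S, W)] c)) := fun z c => by
    rw [← happ c, Scheme.Hom.germ_stalkMap_apply, Scheme.Hom.appLE, CommRingCat.comp_apply,
      (Spec (CommRingCat.of C)).presheaf.germ_res_apply]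
  haveI : Smooth q := (HasRingHomProperty.Spec_iff (P := @Smooth)).2 (by
    rw [CommRingCat.hom_ofHom]; exact RingHom.smooth_algebraMap.2 inferInstance)
  have hq : a ≫ pullback.snd f (testMap hW R) = q := chartMap_snd f hW hV e he R
  let Y : Over S := Over.mk (testMap hW R)
  have hqC := isQCoh_pullback (pullback.fst f Y.hom) hF
  have hftC := FittX.isFT_pullback (pullback.fst f Y.hom) hF hft
  have hcov : ∀ r, ∃ z, q z = r := fun r => PrimeSpectrum.comap_surjective_of_faithfullyFlat r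
  have hqa : ∀ z, PicF.XTproj f Y (a z) = q z := fun z =>
    congrArg (fun m : Spec (CommRingCat.of C) ⟶ Spec (CommRingCat.of R) => m z) hq
  haveI : Flat a := inferInstance
  have hsf : ∀ z, StalkFree p (FGA.ET f F Y) (a z) ↔
      ∀ c : Fin p → Γ(X, V), ∑ i, c i • g i = 0 →
        ∀ i, b.stalkMap z (X.presheaf.germ V (b z) (hbV z) (c i)) = 0 := fun z => by
    rw [← stalkFree_iff_relations hF hV hg b z (hbV z)]
    exact ⟨fun h => (stalkFree_pullback a _ z h).of_iso ((Scheme.Modules.pullbackComp a (pullback.fst f Y.hom)).app F),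
      fun h => stalkFree_descent a hqC hftC z
        (h.of_iso ((Scheme.Modules.pullbackComp a (pullback.fst f Y.hom)).app F).symm)⟩
  have hmem : ∀ w : ↥(PicF.XT f Y), FlatFun.IsGenericPtOfFibre (PicF.XTproj f Y) w →
      ∃ z, a z = w ∧ FlatFun.IsGenericPtOfFibre q z := fun w hgen => by
    obtain ⟨z₀, hz₀⟩ := hcov (PicF.XTproj f Y w)
    obtain ⟨z, rfl⟩ := (hgen (a z₀) ((hqa z₀).trans hz₀)).mem_open a.isOpenEmbedding.isOpen_range ⟨z₀, rfl⟩
    refine ⟨z, rfl, fun z' hz' => a.isOpenEmbedding.isInducing.specializes_iff.1 (hgen (a z') ?_)⟩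
    rw [hqa, hqa, hz']
  haveI : GeometricallyIrreducible (PicF.XTproj f Y) := MorphismProperty.pullback_snd _ _ inferInstance
  rw [hcond_iff f F p hF hft]
  constructor
  · intro h c hc i
    refine (ConcreteCategory.bijective_of_isIso (Scheme.ΓSpecIso (CommRingCat.of C)).inv).1 ?_
    refine (eq_zero_of_germ q (isAffineOpen_top _) (isAffineOpen_top _) le_top _ fun z _ => ?_).trans (map_zero _).symm
    obtain ⟨w, hw, hgen, hfree⟩ := h (q z)
    obtain ⟨z', rfl, hgen'⟩ := hmem w hgen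
    refine ⟨z', trivial, (hqa z').symm.trans hw, hgen', ?_⟩
    rw [← hgerm]
    exact (hsf z').1 hfree c hc i
  · intro h r
    obtain ⟨w, hw, hgen⟩ := exists_isGenericPtOfFibre (PicF.XTproj f Y) r
    obtain ⟨z, rfl, -⟩ := hmem w hgen
    refine ⟨a z, hw, hgen, (hsf z).2 fun c hc i => ?_⟩
    rw [hgerm, show (1 : R) ⊗ₜ[Γ(S, W)] c i = 0 from h c hc i, map_zero, map_zero]

end cuts

/-- Near the image of a generated point the condition is cut out by an ideal. -/
theorem exists_cuts [Smooth f] [GeometricallyIrreducible f] (hF : Coh.IsQCoh F) (hft : CohB1.IsFT F)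
    (x : X) (hx : x ∈ genBy F p) :
    ∃ (W : S.Opens) (hW : IsAffineOpen W) (I : Ideal Γ(S, W)), f x ∈ W ∧ (W : Set S) ⊆ f '' genBy F p ∧
      ClosedLocal.Cuts (@HCond X S f F p) hW I ∧ (CohB1.IsFP F → I.FG) := by
  classical
  obtain ⟨W, V, hW, hV, e, g, hxW, hg, hsurj, hstd⟩ := exists_chart f F p hF x hx
  letI : Algebra Γ(S, W) Γ(X, V) := (f.appLE W V e).hom.toAlgebra
  have he : algebraMap Γ(S, W) Γ(X, V) = (f.appLE W V e).hom := rfl
  obtain ⟨d, ψ, hψ, hψe⟩ := hstd.exists_etale_mvPolynomial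
  letI : Algebra (MvPolynomial (Fin d) Γ(S, W)) Γ(X, V) := ψ.toAlgebra
  haveI : IsScalarTower Γ(S, W) (MvPolynomial (Fin d) Γ(S, W)) Γ(X, V) :=
    IsScalarTower.of_algebraMap_eq' hψ.symm
  haveI : Algebra.Etale (MvPolynomial (Fin d) Γ(S, W)) Γ(X, V) := RingHom.etale_algebraMap.1 hψe
  haveI : Algebra.Smooth Γ(S, W) Γ(X, V) :=
    HasRingHomProperty.appLE @Smooth f inferInstance ⟨W, hW⟩ ⟨V, hV⟩ e
  haveI : Module.FaithfullyFlat Γ(S, W) Γ(X, V) := Module.FaithfullyFlat.of_comap_surjective fun P => by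
    obtain ⟨w, hw, hwP⟩ := exists_point hW P
    obtain ⟨v, hv, rfl⟩ := hsurj w hw
    exact ⟨hV.primeIdealOf ⟨v, hv⟩,
      (IsAffineOpen.comap_primeIdealOf_appLE (f := f) W hW V hV e hv).trans hwP⟩
  have hirr : ∀ (K : Type u) [Field K] [Algebra Γ(S, W) K],
      PreirreducibleSpace (PrimeSpectrum (K ⊗[Γ(S, W)] Γ(X, V))) := fun K _ _ =>
    irreducible_fibre f hW hV e he K
  choose J hJfg hJ using fun s : Γ(X, V) => Content.exists_content (d := d) hirr s
  let φ : (Fin p → Γ(X, V)) →ₗ[Γ(X, V)] Γ(F, V) := Fintype.linearCombination Γ(X, V) g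
  have hK : ∀ c, c ∈ LinearMap.ker φ ↔ ∑ i, c i • g i = 0 := fun c => by
    rw [LinearMap.mem_ker, Fintype.linearCombination_apply]
  have hcuts : ∀ G : Set (Fin p → Γ(X, V)), Submodule.span Γ(X, V) G = LinearMap.ker φ →
      ClosedLocal.Cuts (@HCond X S f F p) hW (⨆ c ∈ G, ⨆ i, J (c i)) := by
    intro G hG R q
    letI : Algebra Γ(S, W) R := q.hom.toAlgebra
    refine (hcond_testMap_iff f F hF hft hW hV e he R hg).trans ?_
    simp only [iSup_le_iff]
    constructor
    · intro h c hc i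
      exact (hJ (c i) R).1 (h c ((hK c).1 (hG ▸ Submodule.subset_span hc)) i)
    · intro h c hc
      have hc' : c ∈ Submodule.span Γ(X, V) G := hG ▸ (hK c).2 hc
      clear hc
      induction hc' using Submodule.span_induction with
      | mem c hc => exact fun i => (hJ (c i) R).2 (h c hc i)
      | zero => simp
      | add a b _ _ ha hb => intro i; rw [Pi.add_apply, TensorProduct.tmul_add, ha i, hb i, add_zero]
      | smul r a _ ha =>
        intro i
        have := congrArg (fun z : R ⊗[Γ(S, W)] Γ(X, V) => (1 : R) ⊗ₜ[Γ(S, W)] r * z) (ha i)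
        simpa [Algebra.TensorProduct.tmul_mul_tmul] using this
  refine ⟨W, hW, _, hxW, fun w hw => ?_, hcuts _ (Submodule.span_eq _), fun hfp => ?_⟩
  · obtain ⟨v, hv, rfl⟩ := hsurj w hw
    exact ⟨v, ⟨V, hV, g, hv, hg⟩, rfl⟩
  · haveI := finitePresentation_of_isFP hfp hV
    obtain ⟨G, hG⟩ := Module.FinitePresentation.fg_ker φ (LinearMap.range_eq_top.1 (by
      rw [Fintype.range_linearCombination]; exact hg))
    rw [ClosedLocal.cuts_unique (hcuts _ (Submodule.span_eq _)) (hcuts _ hG)]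
    exact Submodule.fg_biSup G _ fun c _ => Submodule.fg_iSup _ fun i => hJfg _

/-- The open subscheme over which the module is generated by `p` sections near generic points. -/
noncomputable def genOpen [Smooth f] : S.Opens := ⟨f '' genBy F p, f.isOpenMap _ (isOpen_genBy F p)⟩

theorem quasiCompact_genOpen [Smooth f] [GeometricallyIrreducible f] (hfp : CohB1.IsFP F) :
    QuasiCompact (genOpen f F p).ι := by
  classical
  have hF := isQCoh_of_isFP hfp
  rw [quasiCompact_iff_forall_isAffineOpen]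
  intro W hW
  have hc : IsCompact ((W : Set S) ∩ f '' genBy F p) := by
    have hch : ∀ s : (W : Set S), ∃ V : X.affineOpens, s.1 ∈ f '' (V.1 : Set X) ∧ V.1 ≤ f ⁻¹ᵁ W := fun s => by
      obtain ⟨x, hx⟩ := f.surjective s.1
      obtain ⟨_, ⟨V, hV, rfl⟩, hxV, hle⟩ :=
        X.isBasis_affineOpens.exists_subset_of_mem_open (show x ∈ f ⁻¹ᵁ W by show f x ∈ W; rw [hx]; exact s.2) (f ⁻¹ᵁ W).2
      exact ⟨⟨V, hV⟩, ⟨x, hxV, hx⟩, hle⟩
    choose V hsV hVW using hch
    obtain ⟨T, hT⟩ := hW.isCompact.elim_finite_subcover (fun s => f '' ((V s).1 : Set X))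
      (fun s => f.isOpenMap _ (V s).1.2) fun s hs => Set.mem_iUnion.2 ⟨⟨s, hs⟩, hsV ⟨s, hs⟩⟩
    have hcomp : ∀ V : X.affineOpens, IsCompact ((V.1 : Set X) ∩ genBy F p) := fun V => by
      haveI := finitePresentation_of_isFP hfp V.2
      obtain ⟨G, hG⟩ := FittX.ideal_fg (R := Γ(X, V.1)) (M := Γ(F, V.1)) p
      have heq : (V.1 : Set X) ∩ genBy F p = ⋃ a ∈ G, (X.basicOpen a : Set X) := by
        ext x
        simp only [Set.mem_inter_iff, Set.mem_iUnion, SetLike.mem_coe]
        constructor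
        · rintro ⟨hxV, hx⟩
          have h := not_le_of_mem_genBy hF V.2 hxV hx
          rw [← hG, Ideal.span_le, Set.not_subset] at h
          obtain ⟨a, ha, hap⟩ := h
          exact ⟨a, ha, (mem_basicOpen_iff_notMem V.2 hxV a).2 hap⟩
        · rintro ⟨a, ha, hxa⟩
          have hxV := X.basicOpen_le a hxa
          refine ⟨hxV, mem_genBy_of_not_le hF V.2 hxV fun hle => ?_⟩
          exact (mem_basicOpen_iff_notMem V.2 hxV a).1 hxa (hle (hG ▸ Submodule.subset_span ha))
      rw [heq]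
      exact G.finite_toSet.isCompact_biUnion fun a _ => (V.2.basicOpen a).isCompact
    have heq : (W : Set S) ∩ f '' genBy F p = ⋃ s ∈ T, f '' (((V s).1 : Set X) ∩ genBy F p) := by
      ext s
      simp only [Set.mem_inter_iff, Set.mem_iUnion]
      constructor
      · rintro ⟨hsW, x, hx, rfl⟩
        obtain ⟨t, ht, y, hy, hyx⟩ := Set.mem_iUnion₂.1 (hT hsW)
        obtain ⟨η, hη, hgen⟩ := exists_isGenericPtOfFibre f (f x)
        refine ⟨t, ht, η, ⟨(hgen y (hyx.trans hη.symm)).mem_open (V t).1.2 hy,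
          (hgen x hη.symm).mem_open (isOpen_genBy F p) hx⟩, hη⟩
      · rintro ⟨t, -, y, ⟨hy, hyg⟩, rfl⟩
        exact ⟨hVW t hy, y, hyg, rfl⟩
    rw [heq]
    exact T.finite_toSet.isCompact_biUnion fun t _ => (hcomp (V t)).image f.continuous
  refine (genOpen f F p).ι.isOpenEmbedding.isInducing.isCompact_iff.2 ?_
  show IsCompact ((genOpen f F p).ι '' ((genOpen f F p).ι ⁻¹' W))
  rw [Set.image_preimage_eq_inter_range, Scheme.Opens.range_ι]
  exact hc

/-- `H_p` is representable by an immersion, of finite presentation if `F` is. -/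
theorem exists_representableBy [Smooth f] [GeometricallyIrreducible f] (hF : Coh.IsQCoh F) (hft : CohB1.IsFT F) :
    ∃ Z : Over S, IsImmersion Z.hom ∧
      Nonempty ((FlatFun.genPSp S (fun T => FlatFun.FreeAtGenericPts (PicF.XTproj f T) (FGA.ET f F T) p)).RepresentableBy Z) ∧
      (CohB1.IsFP F → LocallyOfFinitePresentation Z.hom ∧ QuasiCompact Z.hom ∧ QuasiSeparated Z.hom) := by
  classical
  let U := genOpen f F p
  let P : ∀ {T : Scheme.{u}}, (T ⟶ (U : Scheme.{u})) → Prop := fun x => HCond f F p (x ≫ U.ι)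
  have hkey : ∀ u : (U : Scheme.{u}), ∃ (W : (U : Scheme.{u}).Opens) (hW : IsAffineOpen W)
      (I : Ideal Γ((U : Scheme.{u}), W)), u ∈ W ∧ ClosedLocal.Cuts @P hW I ∧ (CohB1.IsFP F → I.FG) := by
    intro u
    obtain ⟨x, hx, hxu⟩ := u.2
    obtain ⟨W, hW, I, hxW, hWU, hcuts, hfg⟩ := exists_cuts f F p hF hft x hx
    have hr : W ≤ Scheme.Hom.opensRange U.ι := fun w hw => by
      rw [Scheme.Opens.opensRange_ι]; exact hWU hw
    have hW' : IsAffineOpen (U.ι ⁻¹ᵁ W) := by
      rw [← Scheme.Hom.isAffineOpen_iff_of_isOpenImmersion U.ι, Scheme.Hom.image_preimage_eq_opensRange_inf,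
        inf_eq_right.2 hr]
      exact hW
    refine ⟨U.ι ⁻¹ᵁ W, hW', I.map (U.ι.appLE W (U.ι ⁻¹ᵁ W) le_rfl).hom, (show u.1 ∈ W from hxu ▸ hxW), fun R q => ?_,
      fun h => (hfg h).map _⟩
    show HCond f F p ((Spec.map q ≫ hW'.fromSpec) ≫ U.ι) ↔ _
    rw [Category.assoc, ← IsAffineOpen.SpecMap_appLE_fromSpec U.ι hW hW' le_rfl, ← Spec.map_comp_assoc,
      Ideal.map_le_iff_le_comap]
    exact hcuts R _
  choose W hW I huW hcuts hfg using hkey
  obtain ⟨Z, i, hi, hZ, hlfp⟩ := ClosedLocal.exists_closed @P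
    (fun a x h => by
      show HCond f F p ((a ≫ x) ≫ U.ι)
      rw [Category.assoc]
      exact hcond_comp f F p hF hft a _ h)
    (fun x 𝒱 h => hcond_loc f F p hF hft _ 𝒱 fun i => by
      have := h i
      rwa [show P (𝒱.f i ≫ x) = HCond f F p ((𝒱.f i ≫ x) ≫ U.ι) from rfl, Category.assoc] at this)
    fun u => ⟨W u, hW u, I u, huW u, hcuts u⟩
  haveI := hi
  let ZS : Over S := Over.mk (i ≫ U.ι)
  haveI : Mono (i ≫ U.ι) := inferInstance
  have hP : FlatFun.FreeAtGenericPts (PicF.XTproj f ZS) (FGA.ET f F ZS) p := by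
    have := (hZ i).2 ⟨𝟙 Z, Category.id_comp i⟩
    exact this
  have hst : ∀ ⦃T T₀ : Over S⦄ (_ : T ⟶ T₀), FlatFun.FreeAtGenericPts (PicF.XTproj f T₀) (FGA.ET f F T₀) p →
      FlatFun.FreeAtGenericPts (PicF.XTproj f T) (FGA.ET f F T) p := fun _ _ k h => hcond_bc f F p hF hft k h
  let G := FlatFun.genPSp S (fun T => FlatFun.FreeAtGenericPts (PicF.XTproj f T) (FGA.ET f F T) p)
  have hto : ∀ {T : Over S}, (T ⟶ ZS) → Nonempty (G.obj (op T)) := fun k =>
    (FlatFun.genPSp_nonempty_iff_of_stable _ hst _).2 (hst k hP)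
  have hfrom : ∀ {T : Over S}, G.obj (op T) → Nonempty (T ⟶ ZS) := fun {T} φ => by
    have h : HCond f F p T.hom := (FlatFun.genPSp_nonempty_iff_of_stable _ hst T).1 ⟨φ⟩
    have hsub : Set.range T.hom ⊆ Set.range U.ι := by
      rw [Scheme.Opens.range_ι]
      rintro _ ⟨t, rfl⟩
      exact range_subset f F p hF hft T.hom h t
    let x := IsOpenImmersion.lift U.ι T.hom hsub
    have hx : x ≫ U.ι = T.hom := IsOpenImmersion.lift_fac _ _ _
    obtain ⟨z, hz⟩ := (hZ x).1 (by show HCond f F p (x ≫ U.ι); rw [hx]; exact h)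
    exact ⟨Over.homMk z (by show z ≫ i ≫ U.ι = T.hom; rw [reassoc_of% hz, hx])⟩
  refine ⟨ZS, inferInstanceAs (IsImmersion (i ≫ U.ι)), ⟨
    { homEquiv := fun {T} =>
        { toFun := fun k => (hto k).some
          invFun := fun φ => (hfrom φ).some
          left_inv := fun k => Over.OverMorphism.ext ((cancel_mono (i ≫ U.ι)).1
            ((Over.w _).trans (Over.w k).symm))
          right_inv := fun φ => @Subsingleton.elim _ (FlatFun.genPSp_subsingleton _ _ _) _ _ }
      homEquiv_comp := fun _ _ => @Subsingleton.elim _ (FlatFun.genPSp_subsingleton _ _ _) _ _ }⟩, fun h => ?_⟩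
  haveI := hlfp fun u => ⟨W u, hW u, I u, huW u, hfg u h, hcuts u⟩
  haveI := quasiCompact_genOpen f F p h
  exact ⟨inferInstanceAs (LocallyOfFinitePresentation (i ≫ U.ι)), inferInstanceAs (QuasiCompact (i ≫ U.ι)),
    inferInstanceAs (QuasiSeparated (i ≫ U.ι))⟩

end Groth.Agent.H4BC.GenPts
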