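import Groth.Agent.H9Misc.DRingRelPC2
import Groth.Agent.H9Misc.DRingLBase
import Groth.Agent.H9Misc.DRingPCModule
import Groth.Agent.H9Misc.DRingProjAmp
import Mathlib

/-! Derived base change along a pseudo-coherent algebra preserves relative pseudo-coherence. -/

set_option autoImplicit false
set_option linter.style.haveILetI false
set_option backward.isDefEq.respectTransparency false
set_option maxHeartbeats 1000000

universe u

open CategoryTheory CategoryTheory.Limits MonoidalCategory

attribute [local instance] HasDerivedCategory.standard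

namespace Groth.Agent.H4BC.RelPC

open scoped ChangeOfRings

open Groth.Agent.H9Misc Groth.Agent.KFlatLib DRingLTensor

section Iso

variable {P A : Type u} [CommRing P] [CommRing A] (α : P →+* A) (k : ℕ)

/-- Comparison map `P[y] ⊗_P M → A[y] ⊗_A M`. -/
noncomputable def bcMap : ModuleCat.restrictScalars α ⋙
      ModuleCat.extendScalars.{u, u, u} (MvPolynomial.C : P →+* MvPolynomial (Fin k) P) ⟶
    ModuleCat.extendScalars.{u, u, u} (MvPolynomial.C : A →+* MvPolynomial (Fin k) A) ⋙
      ModuleCat.restrictScalars (MvPolynomial.map (σ := Fin k) α) where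
  app M := ((ModuleCat.extendRestrictScalarsAdj.{u, u, u} (MvPolynomial.C : P →+* MvPolynomial (Fin k) P)).homEquiv _ _).symm
    ((ModuleCat.restrictScalars α).map ((ModuleCat.extendRestrictScalarsAdj.{u, u, u}
        (MvPolynomial.C : A →+* MvPolynomial (Fin k) A)).unit.app M) ≫
      (ModuleCat.restrictScalarsComp' α (MvPolynomial.C : A →+* MvPolynomial (Fin k) A) _ rfl).inv.app _ ≫
      (ModuleCat.restrictScalarsComp' (MvPolynomial.C : P →+* MvPolynomial (Fin k) P) (MvPolynomial.map (σ := Fin k) α)
        (MvPolynomial.C.comp α) (RingHom.ext fun x => (MvPolynomial.map_C α x).symm)).hom.app _)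
  naturality {M N} g := by
    apply ModuleCat.hom_ext
    refine LinearMap.ext fun z => ?_
    induction z using TensorProduct.induction_on with
    | zero => exact (map_zero _).trans (map_zero _).symm
    | add a b ha hb => exact (map_add _ _ _).trans ((congrArg₂ _ ha hb).trans (map_add _ _ _).symm)
    | tmul s m => rfl

attribute [local instance] MvPolynomial.algebraMvPolynomial in
lemma std_pushout :
    letI := α.toAlgebra
    Algebra.IsPushout P (MvPolynomial (Fin k) P) A (MvPolynomial (Fin k) A) := by
  letI := α.toAlgebra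
  exact inferInstance

lemma bcMap_bijective (M : ModuleCat.{u} A) : Function.Bijective ((bcMap α k).app M).hom := by
  letI : Algebra P A := α.toAlgebra
  letI : Algebra P (MvPolynomial (Fin k) P) := (MvPolynomial.C (R := P) (σ := Fin k)).toAlgebra
  letI : Algebra A (MvPolynomial (Fin k) A) := (MvPolynomial.C (R := A) (σ := Fin k)).toAlgebra
  letI : Algebra P (MvPolynomial (Fin k) A) := ((MvPolynomial.C (R := A) (σ := Fin k)).comp α).toAlgebra
  letI : Algebra (MvPolynomial (Fin k) P) (MvPolynomial (Fin k) A) := (MvPolynomial.map (σ := Fin k) α).toAlgebra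
  haveI : IsScalarTower P (MvPolynomial (Fin k) P) (MvPolynomial (Fin k) A) :=
    IsScalarTower.of_algebraMap_eq fun x => (MvPolynomial.map_C α x).symm
  haveI : IsScalarTower P A (MvPolynomial (Fin k) A) := IsScalarTower.of_algebraMap_eq fun _ => rfl
  letI : Module P M := Module.compHom M α
  haveI : IsScalarTower P A M := ⟨fun p a m => mul_smul (α p) a m⟩
  haveI hb : Algebra.IsPushout P (MvPolynomial (Fin k) P) A (MvPolynomial (Fin k) A) := by
    convert (std_pushout α k) using 1 <;> first | rfl | exact Algebra.algebra_ext _ _ fun _ => rfl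
  let e := Algebra.IsPushout.cancelBaseChange P (MvPolynomial (Fin k) P) A (MvPolynomial (Fin k) A) M
  have h : ∀ z : ((ModuleCat.restrictScalars α ⋙
      ModuleCat.extendScalars.{u, u, u} (MvPolynomial.C : P →+* MvPolynomial (Fin k) P)).obj M),
      ((bcMap α k).app M).hom z = e.symm z := by
    intro z
    induction z using TensorProduct.induction_on with
    | zero => exact (map_zero _).trans (map_zero _).symm
    | add a b ha hb => exact (map_add _ _ _).trans ((congrArg₂ _ ha hb).trans (map_add _ _ _).symm)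
    | tmul s m =>
      refine Eq.trans ?_ (Algebra.IsPushout.cancelBaseChange_symm_tmul P (MvPolynomial (Fin k) P) A
        (MvPolynomial (Fin k) A) M s m).symm
      let CP : P →+* MvPolynomial (Fin k) P := MvPolynomial.C
      let CA : A →+* MvPolynomial (Fin k) A := MvPolynomial.C
      let g := (bcMap α k).app M
      have h1 : (ConcreteCategory.hom g) ((1 : MvPolynomial (Fin k) P) ⊗ₜ[P, CP] m) =
          ((1 : MvPolynomial (Fin k) A) ⊗ₜ[A, CA] (show M from m) : (ModuleCat.extendScalars CA).obj M) := by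
        have := ModuleCat.extendRestrictScalarsAdj_homEquiv_apply.{u} (f := (MvPolynomial.C : P →+* MvPolynomial (Fin k) P)) g m
        simp only [g, bcMap, Equiv.apply_symm_apply] at this
        exact this.symm
      have h2 := g.hom.map_smul s ((1 : MvPolynomial (Fin k) P) ⊗ₜ[P, CP] m)
      erw [h1, ModuleCat.ExtendScalars.smul_tmul, mul_one] at h2
      refine h2.trans ?_

      show ((MvPolynomial.map (σ := Fin k) α s * 1) ⊗ₜ[A, CA] (show M from m) : (ModuleCat.extendScalars CA).obj M) = _
      rw [mul_one]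
      rfl
  exact (congrArg Function.Bijective (funext h)).mpr e.symm.bijective

/-- Flat base change commutes with restriction. -/
noncomputable def bcIso : ModuleCat.restrictScalars α ⋙
      ModuleCat.extendScalars.{u, u, u} (MvPolynomial.C : P →+* MvPolynomial (Fin k) P) ≅
    ModuleCat.extendScalars.{u, u, u} (MvPolynomial.C : A →+* MvPolynomial (Fin k) A) ⋙
      ModuleCat.restrictScalars (MvPolynomial.map (σ := Fin k) α) :=
  haveI : ∀ M, IsIso ((bcMap α k).app M) := fun M =>
    (ConcreteCategory.isIso_iff_bijective _).2 (bcMap_bijective α k M)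
  haveI : IsIso (bcMap α k) := NatIso.isIso_of_isIso_app _
  asIso (bcMap α k)

end Iso

section Devissage

variable {S Q : Type u} [CommRing S] [CommRing Q] (φ : S →+* Q)

/-- `X ↦ X ⊗ N` restricted along `φ`. -/
noncomputable def T (X : CochainComplex (ModuleCat.{u} Q) ℤ) (N : ModuleCat.{u} Q) : Dual.D S :=
  DerivedCategory.Q.obj (((ModuleCat.restrictScalars φ).mapHomologicalComplex (ComplexShape.up ℤ)).obj
    ((tensC N).obj X))

variable {φ} {X : CochainComplex (ModuleCat.{u} Q) ℤ} (hflat : ∀ i, Module.Flat Q (X.X i))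

noncomputable def TIso {M N : ModuleCat.{u} Q} (e : M ≅ N) : T φ X M ≅ T φ X N :=
  DerivedCategory.Q.mapIso ((((ModuleCat.restrictScalars φ).mapHomologicalComplex (ComplexShape.up ℤ))).mapIso
    ((NatIso.mapHomologicalComplex ((tensoringRight _).mapIso e) (ComplexShape.up ℤ)).app X))

include hflat in
lemma triangle (S₀ : ShortComplex (ModuleCat.{u} Q)) (hS : S₀.ShortExact) :
    ∃ Δ : Pretriangulated.Triangle (Dual.D S), Δ ∈ Pretriangulated.distinguishedTriangles ∧
      Δ.obj₁ = T φ X S₀.X₁ ∧ Δ.obj₂ = T φ X S₀.X₂ ∧ Δ.obj₃ = T φ X S₀.X₃ := by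
  let R := (ModuleCat.restrictScalars φ).mapHomologicalComplex (ComplexShape.up ℤ)
  let fM : tensorRight S₀.X₁ ⟶ tensorRight S₀.X₂ := (tensoringRight _).map S₀.f
  let gM : tensorRight S₀.X₂ ⟶ tensorRight S₀.X₃ := (tensoringRight _).map S₀.g
  let S₁ : ShortComplex (CochainComplex (ModuleCat.{u} S) ℤ) := ShortComplex.mk
    (R.map ((NatTrans.mapHomologicalComplex fM (ComplexShape.up ℤ)).app X))
    (R.map ((NatTrans.mapHomologicalComplex gM (ComplexShape.up ℤ)).app X)) (by
      rw [← R.map_comp]
      have : (NatTrans.mapHomologicalComplex fM (ComplexShape.up ℤ)).app X ≫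
          (NatTrans.mapHomologicalComplex gM (ComplexShape.up ℤ)).app X = 0 := by
        ext i : 1
        show (X.X i ◁ S₀.f) ≫ (X.X i ◁ S₀.g) = 0
        rw [← MonoidalCategory.whiskerLeft_comp, S₀.zero, MonoidalPreadditive.whiskerLeft_zero]
      rw [this, R.map_zero])
  have h₁ : S₁.ShortExact := by
    refine HomologicalComplex.shortExact_of_degreewise_shortExact _ fun i => ?_
    haveI := hflat i
    haveI := (Module.Flat.iff_preservesFiniteLimits_tensorLeft (M := X.X i)).1 inferInstance
    exact ((hS.map_of_exact (tensorLeft (X.X i))).map_of_exact (ModuleCat.restrictScalars φ))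
  exact ⟨DerivedCategory.triangleOfSES h₁, DerivedCategory.triangleOfSES_distinguished h₁, rfl, rfl, rfl⟩

/-- The devissage. -/
lemma pc_T (hflat : ∀ i, Module.Flat Q (X.X i)) {b : ℤ} (hb : ∀ i, b < i → IsZero (X.X i)) {m : ℤ}
    (hX : DRing.IsPseudoCoherent S m
      (DerivedCategory.Q.obj (((ModuleCat.restrictScalars φ).mapHomologicalComplex (ComplexShape.up ℤ)).obj X)))
    (N : ModuleCat.{u} Q) (hN : DRing.IsPseudoCoherentModule' Q N) :
    DRing.IsPseudoCoherent S m (T φ X N) := by
  have hfree : ∀ r : ℕ, DRing.IsPseudoCoherent S m (T φ X (ModuleCat.of Q (Fin r → Q))) := by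
    intro r
    induction r with
    | zero =>
      refine DRingPC.of_vanish _ fun i _ => ?_
      refine (ShortComplex.isZero_homology_of_isZero_X₂ _ ?_).of_iso
        ((DerivedCategory.homologyFunctorFactors (ModuleCat.{u} S) i).app _)
      exact (ModuleCat.restrictScalars φ).map_isZero ((tensorLeft (X.X i)).map_isZero
        (ModuleCat.isZero_of_subsingleton _))
    | succ r ih =>
      let S₀ : ShortComplex (ModuleCat.{u} Q) := ShortComplex.mk
        (ModuleCat.ofHom (LinearMap.single Q (fun _ : Fin (r + 1) => Q) 0))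
        (ModuleCat.ofHom (LinearMap.funLeft Q Q (Fin.succ : Fin r → Fin (r + 1))))
        (by ext x; simp [LinearMap.funLeft, Fin.succ_ne_zero]; rfl)
      have hS : S₀.ShortExact :=
        { exact := (ShortComplex.moduleCat_exact_iff S₀).2 fun x hx => ⟨(show Fin (r + 1) → Q from x) 0, by
            ext i
            induction i using Fin.cases with
            | zero => simp [S₀]
            | succ j => exact (Pi.single_eq_of_ne (Fin.succ_ne_zero j) ((show Fin (r + 1) → Q from x) 0)).trans (congrFun hx j).symm⟩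
          mono_f := (ModuleCat.mono_iff_injective _).2 fun x y h => by simpa [S₀] using congrFun h 0
          epi_g := (ModuleCat.epi_iff_surjective _).2
            (LinearMap.funLeft_surjective_of_injective Q Q _ (Fin.succ_injective r)) }
      obtain ⟨Δ, hΔ, h₁, h₂, h₃⟩ := triangle (φ := φ) hflat S₀ hS
      rw [show T φ X (ModuleCat.of Q (Fin (r + 1) → Q)) = Δ.obj₂ from h₂.symm]
      refine (Groth.Agent.S2067.result Δ hΔ m).2.1 ?_ ?_
      · rw [h₁]
        exact DRingPC.of_iso (DerivedCategory.Q.mapIso (((ModuleCat.restrictScalars φ).mapHomologicalComplex _).mapIso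
          (HomologicalComplex.Hom.isoOfComponents (fun i => (ρ_ (X.X i)).symm)
            (fun j k _ => (MonoidalCategory.rightUnitor_inv_naturality (X.d j k)))))) hX
      · rw [h₃]
        exact ih
  suffices ∀ (d : ℕ) (j : ℤ), m ≤ j → b + 1 ≤ j + d → ∀ N : ModuleCat.{u} Q,
      DRing.IsPseudoCoherentModule' Q N → DRing.IsPseudoCoherent S j (T φ X N) from
    this (b + 1 - m).toNat m le_rfl (by omega) N hN
  intro d
  induction d with
  | zero =>
    intro j _ hj N _
    refine DRingPC.of_vanish _ fun i hi => ?_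
    refine (ShortComplex.isZero_homology_of_isZero_X₂ _ ?_).of_iso
      ((DerivedCategory.homologyFunctorFactors (ModuleCat.{u} S) i).app _)
    exact (ModuleCat.restrictScalars φ).map_isZero ((tensorRight N).map_isZero (hb i (by omega)))
  | succ d ih =>
    intro j hj hjd N hN
    haveI : Module.Finite Q N := DRingPC.finite_of_pc ((DRingPC.pc'_iff _).1 hN 0)
    obtain ⟨r, π, hπ⟩ := Module.Finite.exists_fin' Q N
    let S₀ : ShortComplex (ModuleCat.{u} Q) := ShortComplex.mk (ModuleCat.ofHom (LinearMap.ker π).subtype)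
      (ModuleCat.ofHom π) (by ext x; exact x.2)
    have hS : S₀.ShortExact :=
      { exact := (ShortComplex.moduleCat_exact_iff S₀).2 fun x hx => ⟨⟨x, hx⟩, rfl⟩
        mono_f := (ModuleCat.mono_iff_injective _).2 Subtype.val_injective
        epi_g := (ModuleCat.epi_iff_surjective _).2 hπ }
    have hker : DRing.IsPseudoCoherentModule' Q S₀.X₁ :=
      DRingPC.obj₁' hS.singleTriangle hS.singleTriangle_distinguished
        ((DRingPC.pc'_iff _).2 fun i => Triage.NoethPC.pc_of_free (A := Q) (Fin r → Q) i) hN
    obtain ⟨Δ, hΔ, h₁, h₂, h₃⟩ := triangle (φ := φ) hflat S₀ hS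
    rw [show T φ X N = Δ.obj₃ from h₃.symm]
    refine (Groth.Agent.S2067.result Δ hΔ j).1 ?_ ?_
    · rw [h₁]
      exact ih (j + 1) (by omega) (by omega) _ hker
    · rw [h₂]
      exact DRingPC.mono hj (hfree r)

end Devissage

open MvPolynomial in
theorem lbase_rel {R A B : Type u} [CommRing R]
    [CommRing A] [CommRing B] [Algebra R A] [Algebra A B] [Algebra R B] [IsScalarTower R A B]
    [Algebra.FiniteType A B] (hB : DerCA.IsRelPseudoCoherentModuleAll A B B)
    [DRing.HasLBaseChange (algebraMap A B)] (K : Dual.D A) (m : ℤ)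
    (hK : DerCA.IsRelPseudoCoherent R A m K) :
    DerCA.IsRelPseudoCoherent R B m ((DRing.LBaseChange (algebraMap A B)).obj K) := by
  obtain ⟨n, α, hα, hKα⟩ := hK
  obtain ⟨k, δ, hδ⟩ := DRingRelPC.exists_presentation A B
  let α' : MvPolynomial (Fin n) R →+* A := α
  let δ' : MvPolynomial (Fin k) A →+* B := δ
  -- bounded above projective representative
  obtain ⟨b, hb⟩ := DRingPC.exists_bound hKα
  haveI : K.IsLE b := DRingProjAmp.isLE_of_hd fun i hi => by
    haveI := ModuleCat.subsingleton_of_isZero (hb i hi)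
    exact (DRingRestrict.HDRestrictIso α' K i).toLinearEquiv.symm.toEquiv.subsingleton
  obtain ⟨C₀, hC₀, ⟨eC⟩⟩ := DerivedCategory.exists_iso_Q_obj_of_isLE K b
  obtain ⟨P, γ, hPb, hP, -, hγ⟩ := TriCat.exists_quasiIso_left_resolution
    (fun X : ModuleCat.{u} A => Module.Projective A X)
    ⟨ModuleCat.of A PUnit.{u + 1}, ModuleCat.isZero_of_subsingleton _, inferInstance⟩
    (fun X => ⟨ModuleCat.of A (X →₀ A), ModuleCat.ofHom (Finsupp.linearCombination A id),
      inferInstance, (ModuleCat.epi_iff_surjective _).2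
        (Finsupp.linearCombination_id_surjective A X)⟩) C₀ b
  haveI : IsIso (DerivedCategory.Q.map γ) := (DerivedCategory.isIso_Q_map_iff_quasiIso _ _).2 hγ
  let eK : DerivedCategory.Q.obj P ≅ K := asIso (DerivedCategory.Q.map γ) ≪≫ eC.symm
  have hzb : ∀ i, b < i → IsZero (P.X i) := fun i hi => P.isZero_of_isStrictlyLE b i hi
  have hflatP : ∀ i, Module.Flat A (P.X i) := fun i => haveI := hP i; inferInstance
  obtain ⟨eL⟩ := DRingLBase.nonempty_lbase_iso (algebraMap A B) (DRingTor.isKF_of_flat hflatP hzb)
  -- the complex over `A[y]`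
  let CA : A →+* MvPolynomial (Fin k) A := MvPolynomial.C
  let CP : MvPolynomial (Fin n) R →+* MvPolynomial (Fin k) (MvPolynomial (Fin n) R) := MvPolynomial.C
  let X := (extC' CA).obj P
  let φ := MvPolynomial.map (σ := Fin k) α'
  have hflatX : ∀ i, Module.Flat (MvPolynomial (Fin k) A) (X.X i) := fun i =>
    haveI := hflatP i; DRingLBase.flat_extendScalars CA (P.X i)
  have hzX : ∀ i, b < i → IsZero (X.X i) := fun i hi => (ModuleCat.extendScalars CA).map_isZero (hzb i hi)
  have hCP : CP.Flat :=
    (RingHom.flat_algebraMap_iff (R := MvPolynomial (Fin n) R)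
      (S := MvPolynomial (Fin k) (MvPolynomial (Fin n) R))).2 inferInstance
  have hX : DRing.IsPseudoCoherent (MvPolynomial (Fin k) (MvPolynomial (Fin n) R)) m
      (DerivedCategory.Q.obj (((ModuleCat.restrictScalars φ).mapHomologicalComplex (ComplexShape.up ℤ)).obj X)) := by
    haveI := ModuleCat.preservesFiniteLimits_extendScalars_of_flat hCP
    let E := ModuleCat.extendScalars.{u, u, u} CP
    haveI : PreservesFiniteColimits E := by
      haveI : E.IsLeftAdjoint := (ModuleCat.extendRestrictScalarsAdj CP).isLeftAdjoint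
      infer_instance
    have h1 := DRingRestrict.pc_map E (DRingRestrict.finFree_extendScalars CP)
      (DRingPC.of_iso ((DRing.restrictD α').mapIso eK.symm ≪≫
        (ModuleCat.restrictScalars α').mapDerivedCategoryFactors.app P) hKα)
    refine DRingPC.of_iso ?_ h1
    exact E.mapDerivedCategoryFactors.app _ ≪≫ DerivedCategory.Q.mapIso
      ((NatIso.mapHomologicalComplex (bcIso α' k) (ComplexShape.up ℤ)).app P)
  let N := (ModuleCat.restrictScalars δ').obj (ModuleCat.of B B)
  have hN : DRing.IsPseudoCoherentModule' (MvPolynomial (Fin k) A) N :=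
    (DRingPC.pc'_iff _).2 fun i => (DRingRelPC.module_iff δ hδ B i).1 (hB i)
  have hT := pc_T hflatX hzX hX N hN
  -- identify
  obtain ⟨β, σ, hσ, hβ⟩ := DRingRelPC.exists_stack ((IsScalarTower.toAlgHom R A B).comp α)
    (fun i : Fin k => δ (MvPolynomial.X i))
  have hcomp : δ'.comp φ = eval₂Hom (((IsScalarTower.toAlgHom R A B).comp α : MvPolynomial (Fin n) R →ₐ[R] B) :
      MvPolynomial (Fin n) R →+* B) (fun i : Fin k => δ (MvPolynomial.X i)) := by
    refine MvPolynomial.ringHom_ext (fun r => ?_) fun i => ?_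
    · simp [φ, δ', α']
    · simp [φ, δ', α']
  have hβs : Function.Surjective β := by
    intro x
    obtain ⟨y, rfl⟩ := hδ x
    obtain ⟨y', rfl⟩ := MvPolynomial.map_surjective α' hα y
    obtain ⟨z, rfl⟩ := hσ.2 y'
    exact ⟨z, (RingHom.congr_fun hβ z).symm.trans (RingHom.congr_fun hcomp (σ z)).symm⟩
  refine (DRingRelPC.iff_via β hβs _ m).2
    ((DRingRelPC.pc_iff_comp (DRingRelPC.PCHom.of_bijective hσ) (δ'.comp φ) _ (hcomp ▸ hβ) _ m).1 ?_)
  refine DRingPC.of_iso ?_ hT
  let F1 : ModuleCat.{u} (MvPolynomial (Fin k) A) ⥤ _ := ModuleCat.extendScalars.{u, u, u} δ' ⋙ ModuleCat.restrictScalars δ'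
  have hA : algebraMap A B = δ'.comp CA := RingHom.ext fun a => (δ.commutes a).symm
  let iX : (extC' δ').obj X ≅ (extC' (algebraMap A B)).obj P :=
    (NatIso.mapHomologicalComplex (eqToIso (congrArg ModuleCat.extendScalars.{u, u, u} hA) ≪≫
      ModuleCat.extendScalarsComp CA δ') (ComplexShape.up ℤ)).symm.app P
  let i1 : (tensC N).obj X ≅
      ((ModuleCat.restrictScalars δ').mapHomologicalComplex (ComplexShape.up ℤ)).obj ((extC' δ').obj X) :=
    ((NatIso.mapHomologicalComplex ((extendRestrictIso δ') ≪≫ (curriedTensorFlipIso.app N).symm)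
      (ComplexShape.up ℤ)).symm.app X)
  exact DerivedCategory.Q.mapIso ((((ModuleCat.restrictScalars φ).mapHomologicalComplex (ComplexShape.up ℤ))).mapIso
      (i1 ≪≫ ((ModuleCat.restrictScalars δ').mapHomologicalComplex _).mapIso iX)) ≪≫
    ((ModuleCat.restrictScalars φ).mapDerivedCategoryFactors.app _).symm ≪≫
    (DRing.restrictD φ).mapIso (((ModuleCat.restrictScalars δ').mapDerivedCategoryFactors.app _).symm ≪≫
      (DRing.restrictD δ').mapIso (eL.symm ≪≫ (DRing.LBaseChange (algebraMap A B)).mapIso eK)) ≪≫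
    ((DRingRelPC.restrictDCompIso φ δ').app _).symm

end Groth.Agent.H4BC.RelPC
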