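import Groth.Agent.DirColim.Descend
import Groth.Agent.FlatSyz5.Colim
import Groth.Agent.KRegLib.SyntBC
import Groth.Agent.Synt29.SyntomicAt
import Mathlib

/-! Syntomic algebras descend to a stage of a directed colimit. -/

set_option autoImplicit false
set_option linter.style.haveILetI false
set_option maxHeartbeats 500000

universe u

open MvPolynomial TensorProduct

namespace Groth.Agent.H4BC.SynColim

open DirColim FlatModel FlatStrat

variable {ι : Type u} {R : Type u} [CommRing R] {G : ι → Type u} [∀ i, CommRing (G i)]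
  [∀ i, Algebra R (G i)] {A : Type u} [CommRing A] [Algebra R A] {g : ∀ i, G i →ₐ[R] A}
  {C : Type u} [CommRing C] [Algebra R C]

/-- Flatness at the colimit gives flatness at a stage. -/
theorem exists_flat (hG : IsColim g) [Algebra.FinitePresentation R C]
    (hflat : Module.Flat A (A ⊗[R] C)) : ∃ i, Module.Flat (G i) (G i ⊗[R] C) := by
  classical
  obtain ⟨n, φ, hφ, hkerφ⟩ := Algebra.FinitePresentation.out (R := R) (A := C)
  let := φ.toRingHom.toAlgebra
  have : IsScalarTower R (MvPolynomial (Fin n) R) C := IsScalarTower.of_algebraMap_eq fun x => (φ.commutes x).symm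
  have : Module.FinitePresentation (MvPolynomial (Fin n) R) C :=
    Module.finitePresentation_of_surjective (Algebra.linearMap (MvPolynomial (Fin n) R) C) hφ hkerφ
  obtain ⟨a, π, hπ⟩ := Module.Finite.exists_fin' (MvPolynomial (Fin n) R) C
  obtain ⟨S, hS⟩ := Module.FinitePresentation.fg_ker π hπ
  let c : Finset R := S.biUnion fun v => Finset.univ.biUnion fun i => (v i).coeffs
  let R₀ : Subalgebra ℤ R := Algebra.adjoin ℤ (c : Set R)
  have : Algebra.FiniteType ℤ R₀ := (Subalgebra.fg_iff_finiteType R₀).1 (Subalgebra.fg_adjoin_finset c)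
  have : IsNoetherianRing R₀ := Algebra.FiniteType.isNoetherianRing ℤ R₀
  have hGdesc : ∀ v ∈ S, ∃ w : V a n R₀, mapV (algebraMap R₀ R) w = v := by
    intro v hv
    have : ∀ i, ∃ q : MvPolynomial (Fin n) R₀, MvPolynomial.map (algebraMap R₀ R) q = v i := fun i =>
      MvPolynomial.mem_range_map_iff_coeffs_subset.2 fun x hx =>
        ⟨⟨x, Algebra.subset_adjoin (Finset.mem_biUnion.2 ⟨v, hv, Finset.mem_biUnion.2 ⟨i, Finset.mem_univ _, hx⟩⟩)⟩, rfl⟩
    choose w hw using this
    exact ⟨w, funext hw⟩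
  choose! lv hlv using hGdesc
  let K₀ : Submodule (MvPolynomial (Fin n) R₀) (V a n R₀) := Submodule.span _ (lv '' S)
  have hker : LinearMap.ker π = KK K₀ R := by
    apply le_antisymm
    · rw [← hS, Submodule.span_le]
      intro v hv
      exact Submodule.subset_span ⟨lv v, Submodule.subset_span ⟨v, hv, rfl⟩, hlv v hv⟩
    · rw [KK, Submodule.span_le]
      rintro _ ⟨w, hw, rfl⟩
      refine Submodule.span_le.2 ?_ (mapV_mem_span (algebraMap R₀ R) hw)
      rintro _ ⟨w, ⟨v, hv, rfl⟩, rfl⟩
      rw [hlv v hv]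
      exact hS.le (Submodule.subset_span hv)
  let eM : Quot' K₀ R ≃ₗ[R] C := (Submodule.quotEquivOfEq _ (LinearMap.ker (π.restrictScalars R))
    (by rw [LinearMap.ker_restrictScalars, hker])).trans ((π.restrictScalars R).quotKerEquivOfSurjective hπ)
  obtain ⟨eA⟩ := nonempty_quot_baseChange (R := R) (R' := A) K₀
  have hF : FlatC K₀ A := (flatC_iff_flat K₀).2 (by
    haveI := hflat
    haveI : Module.Flat A (Quot' K₀ A) := Module.Flat.of_linearEquiv (eA.symm.trans (eM.baseChange R A _ _))
    exact Module.Flat.of_linearEquiv (Submodule.Quotient.restrictScalarsEquiv A (KK K₀ A)).symm)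
  obtain ⟨R₁, hR₁, hR₁F⟩ := exists_fg_flatC K₀ hF
  haveI : Algebra.FiniteType R₀ R₁ := (Subalgebra.fg_iff_finiteType R₁).1 hR₁
  haveI : Algebra.FinitePresentation R₀ R₁ := Algebra.FinitePresentation.of_finiteType.1 inferInstance
  have hG₀ : IsColim (R := R₀) (fun i => (g i).restrictScalars R₀) :=
    ⟨hG.surj, fun i j => by
      obtain ⟨k, ⟨p⟩, ⟨q⟩⟩ := hG.directed i j
      exact ⟨k, ⟨⟨p.1.restrictScalars R₀, AlgHom.ext p.apply⟩⟩, ⟨⟨q.1.restrictScalars R₀, AlgHom.ext q.apply⟩⟩⟩,
      fun i x hx => by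
      obtain ⟨j, p, hp⟩ := hG.ker i x hx
      exact ⟨j, ⟨p.1.restrictScalars R₀, AlgHom.ext p.apply⟩, hp⟩⟩
  obtain ⟨j, ψ, -⟩ := hG₀.exists_lift R₁.val
  letI : Algebra R₁ (G j) := ψ.toRingHom.toAlgebra
  haveI : IsScalarTower R₀ R₁ (G j) := IsScalarTower.of_algebraMap_eq fun r => (ψ.commutes r).symm
  refine ⟨j, ?_⟩
  haveI : Module.Flat R₁ (Quot' K₀ R₁) :=
    haveI := (flatC_iff_flat K₀).1 hR₁F
    Module.Flat.of_linearEquiv (Submodule.Quotient.restrictScalarsEquiv R₁ (KK K₀ R₁))
  obtain ⟨e₁⟩ := nonempty_quot_baseChange (R := R₁) (R' := G j) K₀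
  obtain ⟨e₂⟩ := nonempty_quot_baseChange (R := R) (R' := G j) K₀
  exact Module.Flat.of_linearEquiv ((eM.symm.baseChange R (G j) _ _).trans (e₂.trans e₁.symm))

set_option backward.isDefEq.respectTransparency false

omit [CommRing C] in
theorem flat_push {B B' M : Type u} [CommRing B] [CommRing B'] [Algebra R B] [Algebra R B'] [AddCommGroup M]
    [Module R M] (φ : B →ₐ[R] B') (h : Module.Flat B (B ⊗[R] M)) : Module.Flat B' (B' ⊗[R] M) := by
  letI := φ.toRingHom.toAlgebra
  haveI : IsScalarTower R B B' := IsScalarTower.of_algebraMap_eq fun x => (φ.commutes x).symm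
  exact Module.Flat.of_linearEquiv (AlgebraTensorModule.cancelBaseChange R B B' B' M).symm

/-- The fibres being complete intersections after a base change, a neighbourhood is syntomic. -/
theorem exists_syntomic_nhd {A' B : Type u} [CommRing A'] [CommRing B] [Algebra R A'] [Algebra R B]
    [Module.Flat R B] [Algebra.FinitePresentation R B] (h : Synt.IsSyntomic A' (A' ⊗[R] B))
    (q' : Ideal (A' ⊗[R] B)) [q'.IsPrime] :
    ∃ s : B, (1 : A') ⊗ₜ[R] s ∉ q' ∧ Synt.IsSyntomic R (Localization.Away s) := by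
  letI : Algebra B (A' ⊗[R] B) := Algebra.TensorProduct.rightAlgebra
  let B' := A' ⊗[R] B
  let pA : PrimeSpectrum A' := ⟨q'.comap (algebraMap A' B'), inferInstance⟩
  let q : Ideal B := q'.comap (algebraMap B B')
  let p₀ : PrimeSpectrum R := ⟨pA.asIdeal.comap (algebraMap R A'), inferInstance⟩
  let k := p₀.asIdeal.ResidueField
  let L := pA.asIdeal.ResidueField
  let F := p₀.asIdeal.Fiber B
  let F' := pA.asIdeal.Fiber B'
  letI : Algebra k L := (Ideal.ResidueField.map p₀.asIdeal pA.asIdeal (algebraMap R A') rfl).toAlgebra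
  haveI : IsScalarTower R k L := IsScalarTower.of_algebraMap_eq fun x => by
    show algebraMap R L x = Ideal.ResidueField.map p₀.asIdeal pA.asIdeal (algebraMap R A') rfl (algebraMap R k x)
    rw [Ideal.ResidueField.map_algebraMap, ← IsScalarTower.algebraMap_apply]
  letI : Algebra B F := Algebra.TensorProduct.rightAlgebra
  letI : Algebra B' F' := Algebra.TensorProduct.rightAlgebra
  haveI : IsScalarTower k L F' := inferInstance
  letI : Algebra B F' := ((algebraMap B' F').comp (algebraMap B B')).toAlgebra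
  haveI : IsScalarTower B B' F' := IsScalarTower.of_algebraMap_eq fun _ => rfl
  haveI : IsScalarTower R L F' := inferInstance
  haveI : IsScalarTower R A' F' := inferInstance
  haveI : IsScalarTower R B F' := IsScalarTower.of_algebraMap_eq fun x => by
    show _ = algebraMap B' F' (algebraMap B B' (algebraMap R B x))
    rw [← IsScalarTower.algebraMap_apply R B B', IsScalarTower.algebraMap_apply R A' B',
      ← IsScalarTower.algebraMap_apply A' B' F', ← IsScalarTower.algebraMap_apply R A' F']
  haveI : IsScalarTower R k F' := inferInstance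
  let φ : F →ₐ[R] F' := Algebra.TensorProduct.lift (IsScalarTower.toAlgHom R k F') (IsScalarTower.toAlgHom R B F')
    (fun _ _ => Commute.all _ _)
  letI : Algebra F F' := φ.toRingHom.toAlgebra
  haveI : IsScalarTower k F F' := IsScalarTower.of_algebraMap_eq fun x => by
    show algebraMap k F' x = φ (x ⊗ₜ[R] (1 : B))
    rw [Algebra.TensorProduct.lift_tmul, map_one, mul_one]
    rfl
  haveI : IsScalarTower B F F' := IsScalarTower.of_algebraMap_eq fun x => by
    show algebraMap B F' x = φ ((1 : k) ⊗ₜ[R] x)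
    rw [Algebra.TensorProduct.lift_tmul, map_one, one_mul]
    rfl
  haveI : Algebra.IsPushout k L F F' := KRegLib.isPushout_fiber (A := R) (A' := A') (B := B) (B' := B')
  -- the prime of the fibre over `q'`
  obtain ⟨Q', hQ'⟩ : ∃ Q' : PrimeSpectrum F',
      Q'.asIdeal.comap (Algebra.TensorProduct.includeRight : B' →ₐ[A'] F') = q' := by
    let Q' := (PrimeSpectrum.preimageOrderIsoFiber A' B' pA).toEquiv
      ⟨⟨q', inferInstance⟩, PrimeSpectrum.ext rfl⟩
    refine ⟨Q', ?_⟩
    exact congrArg PrimeSpectrum.asIdeal (congrArg Subtype.val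
      ((PrimeSpectrum.preimageOrderIsoFiber A' B' pA).toEquiv.symm_apply_apply
        ⟨⟨q', inferInstance⟩, PrimeSpectrum.ext rfl⟩))
  let Q : Ideal F := Q'.asIdeal.comap (algebraMap F F')
  have hQ : Q.comap (Algebra.TensorProduct.includeRight : B →ₐ[R] F) = q := by
    ext x
    refine Iff.trans ?_ (SetLike.ext_iff.1 hQ' (algebraMap B B' x))
    show φ ((1 : k) ⊗ₜ[R] x) ∈ Q'.asIdeal ↔ _
    rw [Algebra.TensorProduct.lift_tmul, map_one, one_mul]
    rfl
  have hp : q.comap (algebraMap R B) = p₀.asIdeal := by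
    show (q'.comap (algebraMap B B')).comap (algebraMap R B) = (q'.comap (algebraMap A' B')).comap (algebraMap R A')
    rw [Ideal.comap_comap, Ideal.comap_comap, ← IsScalarTower.algebraMap_eq, ← IsScalarTower.algebraMap_eq]
  have hCI : Synt.IsCIOver k (Localization.AtPrime Q) :=
    (Synt29.isCIOver_atPrime_iff_of_isPushout (L := L) Q'.asIdeal Q rfl).1
      (Synt29.isCIOver_atPrime_of_isLCIOver (h.2.2 pA) Q'.asIdeal)
  haveI : Algebra.FinitePresentation R (Localization.Away (1 : B)) :=
    haveI : Algebra.FinitePresentation B (Localization.Away (1 : B)) := IsLocalization.Away.finitePresentation 1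
    Algebra.FinitePresentation.trans R B _
  obtain ⟨s, hs, N, M, F₀, hF₀, ⟨e⟩⟩ := Synt29.exists_syntomic_away_iff p₀.asIdeal q Q hQ hp 1
    (fun h1 => q'.one_notMem ((map_one (algebraMap B B')) ▸ (show algebraMap B B' 1 ∈ q' from h1)))
    (haveI : Module.Flat B (Localization.AtPrime q) := IsLocalization.flat _ q.primeCompl
     Module.Flat.trans R B _) hCI
  exact ⟨s, hs, Synt29.isSyntomic_of_algEquiv e (Synt29.isSyntomic_relGCIRing hF₀)⟩

/-- Syntomicity descends to a stage. -/
theorem exists_syntomic (hG : IsColim g) [Algebra.FinitePresentation R C]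
    (h : Synt.IsSyntomic A (A ⊗[R] C)) : ∃ i, Synt.IsSyntomic (G i) (G i ⊗[R] C) := by
  classical
  obtain ⟨i, hi⟩ := exists_flat hG (C := C) h.1
  let B := G i ⊗[R] C
  letI : Algebra (G i) A := (g i).toRingHom.toAlgebra
  haveI : IsScalarTower R (G i) A := IsScalarTower.of_algebraMap_eq fun x => ((g i).commutes x).symm
  let e : A ⊗[G i] B ≃ₐ[A] A ⊗[R] C := Algebra.TensorProduct.cancelBaseChange R (G i) A A C
  have h' : Synt.IsSyntomic A (A ⊗[G i] B) := Synt29.isSyntomic_of_algEquiv e.symm h
  let T : Set B := {s | Synt.IsSyntomic (G i) (Localization.Away s)}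
  let gC : ∀ j, G j ⊗[R] C →ₐ[R] A ⊗[R] C := fun j => Algebra.TensorProduct.map (g j) (AlgHom.id R C)
  have htop : Ideal.span (gC i '' T) = ⊤ := by
    by_contra hne
    obtain ⟨m, hm, hle⟩ := Ideal.exists_le_maximal _ hne
    obtain ⟨s, hs, hsT⟩ := exists_syntomic_nhd h' (m.comap e)
    refine hs (hle (Ideal.subset_span ⟨s, hsT, ?_⟩))
    show gC i s = e ((1 : A) ⊗ₜ[G i] s)
    clear hs hsT
    induction s using TensorProduct.induction_on with
    | zero => simp
    | add a b ha hb => simp only [TensorProduct.tmul_add, map_add, ha, hb]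
    | tmul x c => refine Eq.trans ?_ (Algebra.TensorProduct.cancelBaseChange_tmul R (G i) A (A := A) (B := C) 1 x c).symm; rw [Algebra.smul_def, mul_one]; rfl
  obtain ⟨l, hl⟩ := (Finsupp.mem_span_iff_linearCombination _ _ _).1 ((Ideal.eq_top_iff_one _).1 htop)
  choose s hsT hs using fun x : gC i '' T => x.2
  -- lift the coefficients
  obtain ⟨j, hj⟩ := hG.eventually_forall
    (fun x j => Nonempty (Trans g i j) ∧ ∃ y : G j ⊗[R] C, gC j y = l x)
    (fun x a b φ ⟨⟨ψ⟩, y, hy⟩ => ⟨⟨φ.comp ψ⟩, push C φ y, (map_push φ C y).trans hy⟩) l.support fun x _ => by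
      obtain ⟨j, z, hz⟩ := hG.exists_tensor_eq C (Algebra.TensorProduct.comm R A C (l x))
      obtain ⟨k, ⟨φ⟩, ⟨ψ⟩⟩ := hG.directed i j
      refine ⟨k, ⟨φ⟩, push C ψ (Algebra.TensorProduct.comm R C (G j) z), ?_⟩
      refine (map_push ψ C _).trans ?_
      rw [← (Algebra.TensorProduct.comm R A C).symm_apply_apply (l x), ← hz]
      clear hz
      induction z using TensorProduct.induction_on with
      | zero => simp
      | add a b ha hb => simp only [map_add, ha, hb]
      | tmul c y => simp
  choose ψ y hy using hj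
  by_cases hl0 : l.support = ∅
  · haveI : Subsingleton (A ⊗[R] C) := subsingleton_of_zero_eq_one (by
      rw [← hl, Finsupp.support_eq_empty.1 hl0, map_zero])
    obtain ⟨k, φ, hk⟩ := exists_push_eq_zero hG C (1 : G i ⊗[R] C) (Subsingleton.elim _ _)
    haveI : Subsingleton (G k ⊗[R] C) := subsingleton_of_zero_eq_one (by rw [← hk, map_one])
    exact ⟨k, flat_push φ.1 hi, inferInstance, fun p => Synt29.isLCIOver_of_subsingleton _ _⟩
  obtain ⟨x₀, hx₀⟩ := Finset.nonempty_iff_ne_empty.2 hl0
  obtain ⟨χ⟩ := ψ x₀ hx₀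
  let z : G j ⊗[R] C := ∑ x ∈ l.support.attach, y x x.2 * push C χ (s x) - 1
  have hz : gC j z = 0 := by
    simp only [z, map_sub, map_sum, map_mul, map_one, sub_eq_zero]
    rw [← hl, Finsupp.linearCombination_apply, Finsupp.sum, ← Finset.sum_attach l.support]
    refine Finset.sum_congr rfl fun x _ => ?_
    rw [hy x x.2, show gC j (push C χ (s x)) = gC i (s x) from map_push χ C _, hs, smul_eq_mul]
  obtain ⟨k, φ, hk⟩ := exists_push_eq_zero hG C z hz
  refine ⟨k, ?_⟩
  let θ := φ.comp χ
  let B' := G k ⊗[R] C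
  letI : Algebra (G i) (G k) := θ.1.toRingHom.toAlgebra
  haveI : IsScalarTower R (G i) (G k) := IsScalarTower.of_algebraMap_eq fun x => (θ.1.commutes x).symm
  let e' : G k ⊗[G i] B ≃ₐ[G k] B' := Algebra.TensorProduct.cancelBaseChange R (G i) (G k) (G k) C
  have he' : ∀ w : B, e' ((1 : G k) ⊗ₜ[G i] w) = push C θ w := fun w => by
    induction w using TensorProduct.induction_on with
    | zero => simp
    | add a b ha hb => simp only [TensorProduct.tmul_add, map_add, ha, hb]
    | tmul x c => refine (Algebra.TensorProduct.cancelBaseChange_tmul R (G i) (G k) (A := G k) (B := C) 1 x c).trans ?_; rw [Algebra.smul_def, mul_one]; rfl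
  refine Synt29.isSyntomic_of_span (Set.range fun x : l.support => push C θ (s x.1)) ?_ ?_
  · rw [Ideal.eq_top_iff_one]
    have h1 : (1 : B') = ∑ x ∈ l.support.attach, push C φ (y x x.2) * push C θ (s x) := by
      have := congrArg (fun w => w + 1) hk
      simp only [z, map_sub, map_sum, map_mul, map_one, zero_add, sub_add_cancel] at this
      rw [← this]
      exact Finset.sum_congr rfl fun x _ => by rw [show push C θ (s x) = push C φ (push C χ (s x)) from push_comp φ χ C _]
    rw [h1]
    exact sum_mem fun x _ => Ideal.mul_mem_left _ _ (Ideal.subset_span ⟨x, rfl⟩)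
  · rintro _ ⟨x, rfl⟩
    let L := Localization.Away (s x.1)
    letI : Algebra (G k ⊗[G i] B) (G k ⊗[G i] L) :=
      (Algebra.TensorProduct.map (AlgHom.id (G k) (G k)) (IsScalarTower.toAlgHom (G i) B L)).toRingHom.toAlgebra
    haveI : IsScalarTower (G k) (G k ⊗[G i] B) (G k ⊗[G i] L) :=
      IsScalarTower.of_algebraMap_eq fun w => ((Algebra.TensorProduct.map (AlgHom.id (G k) (G k))
        (IsScalarTower.toAlgHom (G i) B L)).commutes w).symm
    haveI := IsLocalization.tensorProduct_tensorProduct_right (G i) (G k) (Submonoid.powers (s x.1)) L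
      (RingHom.ext fun w => Algebra.TensorProduct.map_tmul _ _ _ _)
    letI : Algebra B' (G k ⊗[G i] L) := ((algebraMap (G k ⊗[G i] B) (G k ⊗[G i] L)).comp e'.symm.toRingHom).toAlgebra
    haveI : IsScalarTower (G k) B' (G k ⊗[G i] L) := IsScalarTower.of_algebraMap_eq fun w => by
      show _ = algebraMap (G k ⊗[G i] B) (G k ⊗[G i] L) (e'.symm (algebraMap (G k) B' w))
      rw [AlgEquiv.commutes, ← IsScalarTower.algebraMap_apply]
    haveI : IsLocalization.Away (push C θ (s x.1)) (G k ⊗[G i] L) := by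
      have := IsLocalization.isLocalization_of_base_ringEquiv ((Submonoid.powers (s x.1)).map
        (Algebra.TensorProduct.includeRight (R := G i) (A := G k) (B := B))) (G k ⊗[G i] L) e'.toRingEquiv
      rw [Submonoid.map_powers, Submonoid.map_powers] at this
      rw [← he']
      exact this
    have hsyn : Synt.IsSyntomic (G k) (G k ⊗[G i] L) := KRegLib.isSyntomic_tensor (hsT x.1)
    exact Synt29.isSyntomic_of_algEquiv
      ((IsLocalization.algEquiv (Submonoid.powers (push C θ (s x.1))) (G k ⊗[G i] L) _).restrictScalars (G k)) hsyn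

end Groth.Agent.H4BC.SynColim
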