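import Groth.Agent.H4BC.SynColim
import Groth.Agent.LimSm.Flat
import Mathlib

/-! Syntomicity descends along limits. -/

set_option autoImplicit false
set_option linter.style.haveILetI false
set_option maxHeartbeats 1000000

universe u

open AlgebraicGeometry CategoryTheory Limits TopologicalSpace TensorProduct

namespace Groth.Agent.H4BC.SynLim

open Groth.Agent.MorLib

/-- Syntomic morphisms. -/
abbrev Syn : MorphismProperty Scheme.{u} := fun _ _ f => Synt.IsSyntomicMor f

instance hasRingHomProperty_syn : HasRingHomProperty Syn.{u} Synt29.RingHomIsSyntomic :=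
  Synt29.hasRingHomProperty_isSyntomicMor

instance stableBC_syn : Syn.{u}.IsStableUnderBaseChange :=
  HasRingHomProperty.isStableUnderBaseChange KRegLib.syntomic_stableUnderBaseChange

set_option backward.isDefEq.respectTransparency.types false in
/-- Syntomicity for `appTop` of a cartesian square of affine schemes, in algebraic terms. -/
theorem syn_iff_tensor {X S T P : Scheme.{u}} [IsAffine X] [IsAffine S] [IsAffine T] [IsAffine P]
    {fst : P ⟶ X} {snd : P ⟶ T} {f : X ⟶ S} {g : T ⟶ S} (h : IsPullback fst snd f g) :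
    letI := f.appTop.hom.toAlgebra
    letI := g.appTop.hom.toAlgebra
    Syn snd ↔ Synt.IsSyntomic Γ(T, ⊤) (Γ(T, ⊤) ⊗[Γ(S, ⊤)] Γ(X, ⊤)) := by
  letI := f.appTop.hom.toAlgebra
  letI := g.appTop.hom.toAlgebra
  have hp := (isPushout_appTop_of_isPullback h).flip
  have hq := CommRingCat.isPushout_tensorProduct Γ(S, ⊤) Γ(T, ⊤) Γ(X, ⊤)
  let e := hq.isoIsPushout _ _ hp
  have he : CommRingCat.ofHom (Algebra.TensorProduct.includeLeftRingHom
      (R := Γ(S, ⊤)) (A := Γ(T, ⊤)) (B := Γ(X, ⊤))) ≫ e.hom = snd.appTop :=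
    IsPushout.inl_isoIsPushout_hom _ _ hq hp
  rw [HasRingHomProperty.iff_of_isAffine (P := Syn.{u}), ← he, CommRingCat.hom_comp,
    ← Synt29.ringHomIsSyntomic_algebraMap]
  constructor
  · intro hs
    have := KRegLib.syntomic_respectsIso.1 _ e.symm.commRingCatIsoToRingEquiv hs
    have heq : e.symm.commRingCatIsoToRingEquiv.toRingHom.comp (e.hom.hom.comp
        (CommRingCat.ofHom (Algebra.TensorProduct.includeLeftRingHom
          (R := Γ(S, ⊤)) (A := Γ(T, ⊤)) (B := Γ(X, ⊤)))).hom) =
        algebraMap Γ(T, ⊤) (Γ(T, ⊤) ⊗[Γ(S, ⊤)] Γ(X, ⊤)) :=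
      RingHom.ext fun x => congr($(e.hom_inv_id).hom (algebraMap Γ(T, ⊤) (Γ(T, ⊤) ⊗[Γ(S, ⊤)] Γ(X, ⊤)) x))
    exact heq ▸ this
  · intro hs
    exact KRegLib.syntomic_respectsIso.1 _ e.commRingCatIsoToRingEquiv hs

set_option backward.isDefEq.respectTransparency.types false in
/-- Descent of syntomicity: affine case. -/
theorem affineCase_syn {I : Type u} [SmallCategory I] [IsCofiltered I] (D : I ⥤ Scheme.{u}) (c : Cone D)
    (hc : IsLimit c) [∀ {i j : I} (f : i ⟶ j), IsAffineHom (D.map f)] (i : I) [IsAffine (D.obj i)]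
    {X₀ : Scheme.{u}} (f₀ : X₀ ⟶ D.obj i) [IsAffine X₀]
    [LocallyOfFinitePresentation f₀] (h : Syn (pullback.snd f₀ (c.π.app i))) :
    ∃ (j : I) (φ : j ⟶ i), Syn (pullback.snd f₀ (D.map φ)) := by
  haveI hA : IsAffineHom (c.π.app i) := isAffineHom_π_app D c hc i
  haveI hAi : IsAffine (((Functor.const I).obj c.pt).obj i) :=
    isAffine_of_isAffineHom (c.π.app i)
  haveI : IsAffine c.pt := hAi
  haveI : ∀ j : Over i, IsAffine (D.obj j.left) := fun j => isAffine_of_isAffineHom (D.map j.hom)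
  haveI : ∀ j : Over i, IsAffine ((Over.forget i ⋙ D).obj j) := fun j => isAffine_of_isAffineHom (D.map j.hom)
  have hc' := (Functor.Initial.isLimitWhiskerEquiv (Over.forget i) c).symm hc
  letI := f₀.appTop.hom.toAlgebra
  letI : ∀ j : Over i, Algebra Γ(D.obj i, ⊤) Γ(D.obj j.left, ⊤) := fun j =>
    (D.map j.hom).appTop.hom.toAlgebra
  letI : Algebra Γ(D.obj i, ⊤) Γ(c.pt, ⊤) := (c.π.app i).appTop.hom.toAlgebra
  haveI : Algebra.FinitePresentation Γ(D.obj i, ⊤) Γ(X₀, ⊤) :=
    (HasRingHomProperty.iff_of_isAffine (P := @LocallyOfFinitePresentation)).mp ‹_›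
  let g : ∀ j : Over i, Γ(D.obj j.left, ⊤) →ₐ[Γ(D.obj i, ⊤)] Γ(c.pt, ⊤) := fun j =>
    { (c.π.app j.left).appTop.hom with commutes' := fun a => Desc.π_map_apply j a }
  have tr : ∀ {j k : Over i} (m : k ⟶ j), ∃ φ : DirColim.Trans g j k,
      ∀ x, φ.1 x = (D.map m.left).appTop x := fun {j k} m => by
    refine ⟨⟨{ (D.map m.left).appTop.hom with commutes' := fun a => Desc.map_map_apply m a }, ?_⟩,
      fun x => rfl⟩
    ext x
    show (c.π.app k.left).appTop ((D.map m.left).appTop x) = (c.π.app j.left).appTop x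
    rw [← c.w m.left, Scheme.Hom.comp_appTop]
    rfl
  have hG : DirColim.IsColim g :=
    { surj := fun a => exists_appTop_π_eq_of_isAffine_of_isLimit (Over.forget i ⋙ D)
        (c.whisker (Over.forget i)) hc' a
      directed := fun j k => by
        obtain ⟨l, a, b, -⟩ := IsCofilteredOrEmpty.cone_objs j k
        exact ⟨l, ⟨(tr a).choose⟩, ⟨(tr b).choose⟩⟩
      ker := fun j x hx => by
        obtain ⟨k, m, hm⟩ := exists_appTop_map_eq_zero_of_isLimit (Over.forget i ⋙ D)
          (c.whisker (Over.forget i)) hc' (i := j) x hx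
        obtain ⟨φ, hφ⟩ := tr m
        exact ⟨k, φ, (hφ x).trans hm⟩ }
  haveI hP : IsAffine (pullback f₀ (c.π.app i)) := inferInstance
  obtain ⟨j, hj⟩ := SynColim.exists_syntomic hG
    ((syn_iff_tensor (IsPullback.of_hasPullback f₀ (c.π.app i))).mp h)
  haveI : IsAffine (pullback f₀ (D.map j.hom)) := inferInstance
  exact ⟨j.left, j.hom, (syn_iff_tensor (IsPullback.of_hasPullback f₀ (D.map j.hom))).mpr hj⟩

set_option backward.isDefEq.respectTransparency.types false in
/-- Syntomicity descends along limits. -/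
theorem core_syn : Desc.Core Syn (@LocallyOfFinitePresentation : MorphismProperty Scheme.{u}) :=
  haveI : IsZariskiLocalAtSource Syn.{u} := HasRingHomProperty.instIsZariskiLocalAtSource
  haveI : MorphismProperty.RespectsIso Syn.{u} := MorphismProperty.IsStableUnderBaseChange.respectsIso
  LimSm.core_of_affineSource Syn (@LocallyOfFinitePresentation : MorphismProperty Scheme.{u})
    (fun j _ f hf => IsZariskiLocalAtSource.comp (P := Syn.{u}) hf j)
    (fun j _ f hf => haveI := hf; inferInstanceAs (LocallyOfFinitePresentation (j ≫ f)))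
    fun I _ _ D c hc hD i hi X₀ f₀ hX hQ h => by
      haveI : ∀ {i j : I} (f : i ⟶ j), IsAffineHom (D.map f) := fun {i j} f => hD i j f
      haveI := hi
      haveI := hX
      haveI : LocallyOfFinitePresentation f₀ := hQ
      exact affineCase_syn D c hc i f₀ h

end Groth.Agent.H4BC.SynLim
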